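import Mathlib.RingTheory.AdjoinRoot
import Mathlib.RingTheory.TensorProduct.Basic
import Mathlib.RingTheory.Localization.BaseChange
import Mathlib.RingTheory.RingHom.Etale

/-!
# Base change and localisation of simple adjunctions of a root
-/

set_option autoImplicit false

universe u

open TensorProduct Polynomial

namespace Groth.Agent.H26Cyc

noncomputable section

variable {R : Type u} [CommRing R] (S : Type u) [CommRing S] [Algebra R S] (p : R[X])

/-- `S ⊗ R[T]/(p) ≅ S[T]/(p)`. -/
def tensorAdjoinRoot : S ⊗[R] AdjoinRoot p ≃ₐ[S] AdjoinRoot (p.map (algebraMap R S)) := by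
  let g : AdjoinRoot p →ₐ[R] AdjoinRoot (p.map (algebraMap R S)) :=
    AdjoinRoot.liftAlgHom p (Algebra.ofId R _) (AdjoinRoot.root _) (by
      have h := AdjoinRoot.eval₂_root (p.map (algebraMap R S))
      rw [eval₂_map] at h
      exact h)
  refine AlgEquiv.ofAlgHom (Algebra.TensorProduct.lift (Algebra.ofId S _) g fun a b => mul_comm _ _)
    (AdjoinRoot.liftAlgHom _ (Algebra.ofId S _) (1 ⊗ₜ AdjoinRoot.root p) (by
      rw [eval₂_map]
      have h : p.eval₂ (algebraMap R (AdjoinRoot p)) (AdjoinRoot.root p) = 0 := AdjoinRoot.eval₂_root p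
      have h2 := congrArg (Algebra.TensorProduct.includeRight (R := R) (A := S) (B := AdjoinRoot p)) h
      rw [map_zero, ← AlgHom.coe_toRingHom, hom_eval₂] at h2
      have hh : ((Algebra.ofId S (S ⊗[R] AdjoinRoot p) : S →+* _).comp (algebraMap R S)) =
          (Algebra.TensorProduct.includeRight (R := R) (A := S) (B := AdjoinRoot p)).toRingHom.comp
            (algebraMap R (AdjoinRoot p)) := RingHom.ext fun a =>
        (IsScalarTower.algebraMap_apply R S (S ⊗[R] AdjoinRoot p) a).symm.trans
          ((Algebra.TensorProduct.includeRight (R := R) (A := S) (B := AdjoinRoot p)).commutes a).symm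
      exact (congrArg (fun φ => p.eval₂ φ _) hh).trans h2)) ?_ ?_
  · apply AdjoinRoot.algHom_ext
    simp [g]
  · apply Algebra.TensorProduct.ext
    · exact Subsingleton.elim _ _
    · apply AdjoinRoot.algHom_ext
      simp [g]

theorem tensorAdjoinRoot_one_tmul (q : R[X]) :
    tensorAdjoinRoot S p (1 ⊗ₜ AdjoinRoot.mk p q) = AdjoinRoot.mk _ (q.map (algebraMap R S)) := by
  simp only [tensorAdjoinRoot, AlgEquiv.ofAlgHom_apply, Algebra.TensorProduct.lift_tmul, map_one, one_mul]
  simp only [AdjoinRoot.liftAlgHom_mk]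
  rw [← AdjoinRoot.aeval_eq, aeval_def, eval₂_map]
  rfl

variable (g : R) (Rg : Type u) [CommRing Rg] [Algebra R Rg] [IsLocalization.Away g Rg]
  (Bg : Type u) [CommRing Bg] [Algebra (AdjoinRoot p) Bg] [IsLocalization.Away (AdjoinRoot.of p g) Bg]

attribute [local instance] Algebra.TensorProduct.rightAlgebra in
include g in
/-- Localising `R[T]/(p)` at an element of `R` is adjoining a root to the localisation of `R`. -/
theorem exists_adjoinRoot_away_equiv :
    ∃ e : AdjoinRoot (p.map (algebraMap R Rg)) ≃+* Bg,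
      ∀ q : R[X], e (AdjoinRoot.mk _ (q.map (algebraMap R Rg))) = algebraMap (AdjoinRoot p) Bg (AdjoinRoot.mk p q) := by
  haveI : IsLocalization.Away (AdjoinRoot.of p g) (Rg ⊗[R] AdjoinRoot p) := by
    have h : IsLocalization (Algebra.algebraMapSubmonoid (AdjoinRoot p) (Submonoid.powers g))
      (Rg ⊗[R] AdjoinRoot p) := inferInstance
    rw [Algebra.algebraMapSubmonoid, Submonoid.map_powers] at h
    exact h
  let e₂ := IsLocalization.algEquiv (Submonoid.powers (AdjoinRoot.of p g)) (Rg ⊗[R] AdjoinRoot p) Bg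
  refine ⟨(tensorAdjoinRoot Rg p).symm.toRingEquiv.trans e₂.toRingEquiv, fun q => ?_⟩
  have h1 : (tensorAdjoinRoot Rg p).symm (AdjoinRoot.mk _ (q.map (algebraMap R Rg))) =
      algebraMap (AdjoinRoot p) (Rg ⊗[R] AdjoinRoot p) (AdjoinRoot.mk p q) := by
    rw [← tensorAdjoinRoot_one_tmul, AlgEquiv.symm_apply_apply]
    rfl
  refine (congrArg e₂ h1).trans ?_
  exact e₂.commutes _

end

end Groth.Agent.H26Cyc
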