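import Groth.Prelude.Def_EGA4b
import Mathlib

/-!
# Birational integral extensions of normal rings are trivial
-/

set_option autoImplicit false

universe u

open Polynomial

namespace Groth.Agent.H26Cyc

variable {S B : Type u} [CommRing S] [CommRing B]

/-- In a normal ring, an element integral over it with denominator `g` is divisible by `g`. -/
theorem mem_span_of_eval_scaleRoots (hS : EGA4.IsNormalRing S) {g s : S} (hg : IsSMulRegular S g)
    {P : S[X]} (hP : P.Monic) (h : (P.scaleRoots g).eval s = 0) : s ∈ Ideal.span {g} := by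
  refine Ideal.mem_of_localization_maximal fun m hm => ?_
  obtain ⟨hd, hic⟩ := hS m
  haveI := hd; haveI := hic
  let L := Localization.AtPrime m
  let K := FractionRing L
  have hgL : algebraMap S L g ≠ 0 := fun h0 => by
    obtain ⟨⟨c, hc⟩, hcg⟩ := (IsLocalization.map_eq_zero_iff m.primeCompl L g).1 h0
    have : c = 0 := hg ((mul_comm g c).trans (hcg.trans (mul_zero g).symm))
    exact hc (this ▸ m.zero_mem)
  have hgK : algebraMap S K g ≠ 0 := by
    rw [IsScalarTower.algebraMap_apply S L K]
    exact (map_ne_zero_iff _ (IsFractionRing.injective L K)).2 hgL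
  have hint : IsIntegral L (algebraMap S K s / algebraMap S K g) := by
    refine ⟨P.map (algebraMap S L), hP.map _, ?_⟩
    rw [eval₂_map, ← IsScalarTower.algebraMap_eq]
    have h1 := scaleRoots_eval₂_mul (p := P) (algebraMap S K) (algebraMap S K s / algebraMap S K g) g
    rw [mul_div_cancel₀ _ hgK, eval₂_at_apply, h, map_zero] at h1
    exact (mul_eq_zero.1 h1.symm).resolve_left (pow_ne_zero _ hgK)
  obtain ⟨y, hy⟩ := IsIntegrallyClosed.isIntegral_iff.1 hint
  rw [Ideal.map_span, Set.image_singleton, Ideal.mem_span_singleton]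
  refine ⟨y, IsFractionRing.injective L K ?_⟩
  rw [map_mul, hy, ← IsScalarTower.algebraMap_apply S L K, ← IsScalarTower.algebraMap_apply S L K]
  exact (mul_div_cancel₀ _ hgK).symm

/-- An injective integral map from a normal ring which becomes surjective away from a regular element is surjective. -/
theorem surjective_of_away (hS : EGA4.IsNormalRing S) (ψ : S →+* B) (hinj : Function.Injective ψ)
    (hint : ψ.IsIntegral) (g : S) (hgS : IsSMulRegular S g) (hgB : IsSMulRegular B (ψ g))
    (h : ∀ b : B, ∃ (n : ℕ) (s : S), ψ g ^ n * b = ψ s) : Function.Surjective ψ := by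
  intro b
  obtain ⟨n, s, hs⟩ := h b
  obtain ⟨P, hP, hPb⟩ := hint b
  have h1 : (P.scaleRoots (g ^ n)).eval s = 0 := hinj (by
    rw [map_zero, ← eval₂_at_apply, ← hs, ← map_pow, scaleRoots_eval₂_mul, hPb, mul_zero])
  obtain ⟨c, rfl⟩ := Ideal.mem_span_singleton.1 (mem_span_of_eval_scaleRoots hS (hgS.pow n) hP h1)
  exact ⟨c, (hgB.pow n) (by simpa [smul_eq_mul, map_mul] using hs.symm)⟩

end Groth.Agent.H26Cyc
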