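import Groth.Prelude.Def_CycCov
import Groth.Agent.H11Ample.Basic
import Groth.Agent.H26Cyc.Normal
import Groth.Agent.H18Az.EtaleSub
import Groth.Agent.H22Alg.NormalProd
import Groth.Agent.H06Norm.Criterion
import Groth.Agent.H28Neron.NormalSmooth

/-!
# The chart of a normalised cyclic cover over an open set where the section is invertible
-/

set_option autoImplicit false
set_option linter.style.haveILetI false
set_option backward.isDefEq.respectTransparency false
set_option maxHeartbeats 1000000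

universe u

open CategoryTheory CategoryTheory.Limits AlgebraicGeometry Opposite TopologicalSpace

namespace Groth.Agent.H26Cyc

variable {X Y : Scheme.{u}} {L : X.Modules} {N : ℕ}

theorem lpow_eq_spow {U : X.Opens} (e : Γ(L, U)) (n : ℕ) :
    (CycCov.lpow L U e n : Γ(CohB1.tensorPow L n, U)) = H11Ample.spow e n := by
  induction n with
  | zero => rfl
  | succ n ih =>
    change H11Ample.tm (CycCov.lpow L U e n : Γ(CohB1.tensorPow L n, U)) _ = H11Ample.tm _ _
    rw [ih]

theorem bijective_smul {M : X.Modules} {V : X.Opens} {e : Γ(M, V)} (he : H11Tilde.IsGen M e) :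
    Function.Bijective fun r : Γ(X, V) => r • e := by
  have h := he.bijective (le_refl V)
  rwa [Subsingleton.elim (homOfLE (le_refl V)).op (𝟙 _), M.presheaf.map_id] at h

theorem isGen {V : X.Opens} {e : Γ(L, V)} (he : H11Tilde.IsGen L e) : CycCov.IsGen L V e :=
  bijective_smul he

theorem ideal_eq_top (I : X.IdealSheafData) (A : X.affineOpens) (h : ∀ x ∈ A.1, x ∉ I.support) :
    I.ideal A = ⊤ := by
  rw [← PrimeSpectrum.zeroLocus_empty_iff_eq_top, Set.eq_empty_iff_forall_notMem]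
  intro p hp
  have : A.2.fromSpec p ∈ X.zeroLocus (U := A.1) (I.ideal A) ∩ (A.1 : Set X) := by
    rw [← A.2.fromSpec_image_zeroLocus]
    exact ⟨p, hp, rfl⟩
  exact h _ this.2 ((Scheme.IdealSheafData.mem_support_iff_of_mem this.2).2 this.1)

theorem divIdeal_eq_top {r : ℕ} (D : Fin r → X.IdealSheafData) (α : Fin r → ℕ) (W : X.Opens)
    (hW : ∀ j : Fin r, 0 < α j → Disjoint (W : Set X) ((D j).support : Set X))
    (U : X.affineOpens) (hU : U.1 ≤ W) : (CycCov.divIdeal D α).ideal U = ⊤ := by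
  rw [CycCov.divIdeal]
  refine Finset.prod_induction _ (fun I : X.IdealSheafData => I.ideal U = ⊤) (fun I J hI hJ => ?_) ?_ fun j _ => ?_
  · rw [Scheme.IdealSheafData.ideal_mul, Pi.mul_apply, hI, hJ, Ideal.top_mul]
  · rw [Scheme.IdealSheafData.one_eq_top, Scheme.IdealSheafData.ideal_top]; rfl
  · rcases Nat.eq_zero_or_pos (α j) with h | h
    · rw [h, Scheme.IdealSheafData.ideal_pow, Pi.pow_apply, pow_zero, Ideal.one_eq_top]
    · rw [Scheme.IdealSheafData.ideal_pow, Pi.pow_apply,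
        ideal_eq_top (D j) U fun x hx => Set.disjoint_left.1 (hW j h) (hU hx), Ideal.top_pow]

variable {s : Coh.structureModule X ⟶ CohB1.tensorPow L N}

theorem exists_coeff {U : X.affineOpens} {e : Γ(L, U.1)} (he : H11Tilde.IsGen L e)
    {I : X.IdealSheafData} (hs : CycCov.IsZeroDiv (CohB1.tensorPow L N) s I) (hI : I.ideal U = ⊤) :
    ∃ f : Γ(X, U.1), IsUnit f ∧ SecTwist.val s U.1 = f • CycCov.lpow L U.1 e N := by
  have hb := bijective_smul (H11Ample.isGen_spow he N)
  rw [← lpow_eq_spow] at hb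
  obtain ⟨f, hf⟩ := hb.2 (SecTwist.val s U.1 : Γ(CohB1.tensorPow L N, U.1))
  have h := hs U
  rw [hI, Submodule.top_smul] at h
  obtain ⟨g, hg⟩ := Submodule.mem_span_singleton.1
    (h.ge (Submodule.mem_top (x := CycCov.lpow L U.1 e N)))
  refine ⟨f, IsUnit.of_mul_eq_one g (hb.1 ?_), hf.symm⟩
  change (f * g) • (CycCov.lpow L U.1 e N : Γ(CohB1.tensorPow L N, U.1)) = (1 : Γ(X, U.1)) • _
  rw [one_smul, mul_comm, mul_smul]
  exact (congrArg (g • ·) hf).trans hg

theorem val_res (U V : X.Opens) (h : V ≤ U) :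
    (CohB1.tensorPow L N).presheaf.map (homOfLE h).op (SecTwist.val s U : Γ(CohB1.tensorPow L N, U)) =
      (SecTwist.val s V : Γ(CohB1.tensorPow L N, V)) := by
  have := PresheafOfModules.naturality_apply s.1 (homOfLE h).op (1 : Γ(X, U))
  refine this.symm.trans ?_
  congr 1
  exact map_one (X.presheaf.map (homOfLE h).op).hom

theorem coeff_res {U V : X.Opens} (h : V ≤ U) {e : Γ(L, U)} {f : Γ(X, U)}
    (hf : SecTwist.val s U = f • CycCov.lpow L U e N) :
    SecTwist.val s V = (X.presheaf.map (homOfLE h).op f) •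
      CycCov.lpow L V (L.presheaf.map (homOfLE h).op e) N := by
  have h1 := congrArg ((CohB1.tensorPow L N).presheaf.map (homOfLE h).op) (hf : (SecTwist.val s U : Γ(CohB1.tensorPow L N, U)) = _)
  rw [val_res U V h] at h1
  refine h1.trans ?_
  erw [Scheme.Modules.map_smul]
  congr 1
  rw [lpow_eq_spow, lpow_eq_spow]
  exact H11Ample.spow_res h e N

section Algebra

open Polynomial

variable {A A' : Type u} [CommRing A] [CommRing A']

/-- The map of simple cyclic algebras induced by a ring map. -/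
noncomputable def mapAdjoin (φ : A →+* A') (f : A) (N : ℕ) :
    AdjoinRoot (Polynomial.X ^ N - C f) →+* AdjoinRoot (Polynomial.X ^ N - C (φ f)) :=
  AdjoinRoot.lift ((AdjoinRoot.of _).comp φ) (AdjoinRoot.root _) (by
    rw [← eval₂_map]
    simp only [Polynomial.map_sub, Polynomial.map_pow, map_X, map_C]
    exact AdjoinRoot.eval₂_root _)

theorem mapAdjoin_mk (φ : A →+* A') (f : A) (N : ℕ) (p : A[X]) :
    mapAdjoin φ f N (AdjoinRoot.mk _ p) = AdjoinRoot.mk _ (p.map φ) := by
  rw [mapAdjoin, AdjoinRoot.lift_mk, ← eval₂_map, ← AdjoinRoot.algebraMap_eq, ← aeval_def, AdjoinRoot.aeval_eq]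

theorem mapAdjoin_injective (φ : A →+* A') (hφ : Function.Injective φ) (f : A) (hN : 0 < N) :
    Function.Injective (mapAdjoin φ f N) := by
  rw [injective_iff_map_eq_zero]
  intro x hx
  induction x using AdjoinRoot.induction_on with
  | ih p =>
    rw [mapAdjoin_mk, AdjoinRoot.mk_eq_zero] at hx
    have hq : (Polynomial.X ^ N - C f : A[X]).Monic := monic_X_pow_sub_C f hN.ne'
    rw [AdjoinRoot.mk_eq_zero, ← modByMonic_eq_zero_iff_dvd hq]
    refine Polynomial.map_injective φ hφ ?_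
    rw [Polynomial.map_zero, map_modByMonic φ hq]
    simp only [Polynomial.map_sub, Polynomial.map_pow, map_X, map_C]
    exact (modByMonic_eq_zero_iff_dvd (monic_X_pow_sub_C _ hN.ne')).2 hx

theorem exists_mapAdjoin_eq [Algebra A A'] (h : A) [IsLocalization.Away h A'] (f : A)
    (σ : AdjoinRoot (Polynomial.X ^ N - C (algebraMap A A' f))) :
    ∃ (n : ℕ) (s : AdjoinRoot (Polynomial.X ^ N - C f)),
      mapAdjoin (algebraMap A A') f N s = mapAdjoin (algebraMap A A') f N (AdjoinRoot.of _ h) ^ n * σ := by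
  induction σ using AdjoinRoot.induction_on with
  | ih p =>
    obtain ⟨⟨b, hbm⟩, hb⟩ := IsLocalization.integerNormalization_map_to_map (Submonoid.powers h) p
    obtain ⟨n, rfl⟩ := hbm
    refine ⟨n, AdjoinRoot.mk _ (IsLocalization.integerNormalization (Submonoid.powers h) p), ?_⟩
    rw [mapAdjoin_mk, hb, ← AdjoinRoot.mk_C, mapAdjoin_mk, map_C, ← map_pow, ← map_mul, ← C_pow, ← map_pow]
    congr 1
    rw [← smul_eq_C_mul, algebraMap_smul]

theorem etale_adjoin (f : A) (hN : 0 < N) (hf : IsUnit f) (hNA : IsUnit (N : A)) :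
    Algebra.Etale A (AdjoinRoot (Polynomial.X ^ N - C f)) := by
  refine _root_.H18Az.EtaleSub.etale_adjoinRoot (monic_X_pow_sub_C f hN.ne') ?_
  obtain ⟨g, hg⟩ := hf.exists_left_inv
  obtain ⟨m, hm⟩ := hNA.exists_left_inv
  refine ⟨C (-g), C (g * m) * Polynomial.X, ?_⟩
  obtain ⟨n, rfl⟩ := Nat.exists_eq_succ_of_ne_zero hN.ne'
  rw [derivative_sub, derivative_C, sub_zero, derivative_X_pow]
  have h1 : (C g * C f : A[X]) = 1 := by rw [← C_mul, hg, C_1]
  have h2 : (C m * C ((n.succ : ℕ) : A) : A[X]) = 1 := by rw [← C_mul, hm, C_1]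
  simp only [map_neg, C_mul, Nat.succ_eq_add_one, Nat.add_sub_cancel] at *
  linear_combination h1 + C g * Polynomial.X ^ (n + 1) * h2

end Algebra

variable {π : Y ⟶ X} (R : CycCov.Root L N s π)

open Polynomial in
theorem res_chart (U V : X.affineOpens) (h : V.1 ≤ U.1) {e : Γ(L, U.1)} (he : H11Tilde.IsGen L e)
    (f : Γ(X, U.1)) (hf : SecTwist.val s U.1 = f • CycCov.lpow L U.1 e N)
    (x : AdjoinRoot (Polynomial.X ^ N - C f)) :
    Y.presheaf.map (homOfLE (π.preimage_mono h)).op (CycCov.chart R U e (isGen he) f hf x) =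
      CycCov.chart R V _ (isGen (he.res h)) _ (coeff_res h hf)
        (mapAdjoin (X.presheaf.map (homOfLE h).op).hom f N x) := by
  induction x using AdjoinRoot.induction_on with
  | ih p =>
    rw [mapAdjoin_mk, CycCov.chart, CycCov.chart, AdjoinRoot.lift_mk, AdjoinRoot.lift_mk, eval₂_map]
    rw [← CommRingCat.hom_comp]
    have h1 := Polynomial.hom_eval₂ p (π.app U.1).hom (Y.presheaf.map (homOfLE (π.preimage_mono h)).op).hom
      (R.t U e (isGen he))
    refine h1.trans ?_
    rw [← CommRingCat.hom_comp, Scheme.Hom.naturality]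
    congr 1
    exact R.t_res U V h e (isGen he) (isGen (he.res h))

section Cover

open Polynomial

variable [IsIntegral X]

/-- Nonzero functions on `X` are regular on a normalised cyclic cover. -/
theorem isSMulRegular_app (hN : 0 < N) (hR : CycCov.IsCover R) (U : X.affineOpens) [Nonempty U.1]
    {e : Γ(L, U.1)} (he : H11Tilde.IsGen L e) (f : Γ(X, U.1))
    (hf : SecTwist.val s U.1 = f • CycCov.lpow L U.1 e N) {a : Γ(X, U.1)} (ha0 : a ≠ 0) :
    IsSMulRegular Γ(Y, π ⁻¹ᵁ U.1) (π.app U.1 a) := by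
  obtain ⟨-, hY, W₀, hW₀, hW₀', hbij⟩ := hR
  haveI := H06Norm.isReduced_of_isNormalScheme hY
  rw [isSMulRegular_iff_right_eq_zero_of_smul]
  intro b hb
  rw [smul_eq_mul] at hb
  apply eq_zero_of_basicOpen_eq_bot b
  rw [← Opens.coe_eq_empty]
  by_contra hne
  obtain ⟨y, hy, hyW⟩ := hW₀'.inter_open_nonempty _ (Y.basicOpen b).isOpen (Set.nonempty_iff_ne_empty.2 hne)
  have hyU : π y ∈ U.1 := Y.basicOpen_le b hy
  obtain ⟨a', ha', hya'⟩ := U.2.exists_basicOpen_le ⟨π y, hyW⟩ hyU
  let V' : X.affineOpens := ⟨X.basicOpen a', U.2.basicOpen a'⟩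
  have hV'U : V'.1 ≤ U.1 := X.basicOpen_le a'
  haveI : Nonempty V'.1 := ⟨⟨π y, hya'⟩⟩
  have hψ' := hbij V' ha' _ (isGen (he.res hV'U)) _ (coeff_res hV'U hf)
  obtain ⟨σ, hσ⟩ := hψ'.2 (Y.presheaf.map (homOfLE (π.preimage_mono hV'U)).op b)
  have h0 : AdjoinRoot.of _ (X.presheaf.map (homOfLE hV'U).op a) * σ = 0 := by
    refine hψ'.1 ?_
    have h1 := congrArg (Y.presheaf.map (homOfLE (π.preimage_mono hV'U)).op) hb
    rw [map_mul, map_zero, ← hσ, ← CommRingCat.comp_apply] at h1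
    erw [← Scheme.Hom.naturality π (homOfLE hV'U).op] at h1
    rw [map_mul, map_zero]
    erw [AdjoinRoot.lift_of]
    exact h1
  have hσ0 : σ = 0 := by
    induction σ using AdjoinRoot.induction_on with
    | ih p =>
      rw [← AdjoinRoot.mk_C, ← map_mul, AdjoinRoot.mk_eq_zero,
        ← modByMonic_eq_zero_iff_dvd (monic_X_pow_sub_C _ hN.ne'), ← smul_eq_C_mul, smul_modByMonic,
        smul_eq_zero] at h0
      rw [AdjoinRoot.mk_eq_zero, ← modByMonic_eq_zero_iff_dvd (monic_X_pow_sub_C _ hN.ne')]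
      refine h0.resolve_left fun h2 => ?_
      have h3 : a = 0 := AlgebraicGeometry.map_injective_of_isIntegral X (homOfLE hV'U) (h2.trans (map_zero _).symm)
      exact ha0 h3
  rw [hσ0, map_zero] at hσ
  have h4 : y ∈ Y.basicOpen (Y.presheaf.map (homOfLE (π.preimage_mono hV'U)).op b) := by
    rw [Scheme.basicOpen_res]
    exact ⟨hya', hy⟩
  rw [← hσ, Scheme.basicOpen_zero] at h4
  exact h4

/-- A normalised cyclic cover is the simple one over an affine open on which the section is invertible. -/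
theorem bijective_chart (hN : 0 < N) (hR : CycCov.IsCover R) (U : X.affineOpens) [Nonempty U.1]
    {e : Γ(L, U.1)} (he : H11Tilde.IsGen L e) (f : Γ(X, U.1))
    (hf : SecTwist.val s U.1 = f • CycCov.lpow L U.1 e N)
    (hS : EGA4.IsNormalRing (AdjoinRoot (Polynomial.X ^ N - C f : Γ(X, U.1)[X]))) :
    Function.Bijective (CycCov.chart R U e (isGen he) f hf) := by
  obtain ⟨hfin, hY, W₀, hW₀, hW₀', hbij⟩ := hR
  haveI := hfin
  have hne : ((U.1 ⊓ W₀ : X.Opens) : Set X).Nonempty := by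
    obtain ⟨x, hx⟩ := ‹Nonempty U.1›
    exact hW₀.inter_open_nonempty _ U.1.isOpen ⟨x, hx⟩
  obtain ⟨x, hxU, hxW⟩ := hne
  obtain ⟨a, ha, hxa⟩ := U.2.exists_basicOpen_le ⟨x, hxW⟩ hxU
  let V : X.affineOpens := ⟨X.basicOpen a, U.2.basicOpen a⟩
  have hVU : V.1 ≤ U.1 := X.basicOpen_le a
  haveI : Nonempty V.1 := ⟨⟨x, hxa⟩⟩
  let φ : Γ(X, U.1) →+* Γ(X, V.1) := (X.presheaf.map (homOfLE hVU).op).hom
  have hφ : Function.Injective φ := AlgebraicGeometry.map_injective_of_isIntegral X (homOfLE hVU)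
  letI := φ.toAlgebra
  haveI : IsLocalization.Away a Γ(X, V.1) := U.2.isLocalization_basicOpen a
  have hψV := hbij V ha _ (isGen (he.res hVU)) _ (coeff_res hVU hf)
  let ψ := CycCov.chart R U e (isGen he) f hf
  have sq := res_chart R U V hVU he f hf
  have hmj : Function.Injective (mapAdjoin φ f N) := mapAdjoin_injective φ hφ f hN
  have hinj : Function.Injective ψ := by
    rw [injective_iff_map_eq_zero]
    intro z hz
    refine hmj (hψV.1 ?_)
    rw [map_zero, map_zero, ← sq, hz, map_zero]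
  have hint : ψ.IsIntegral := by
    intro b
    obtain ⟨P, hP, hPb⟩ := (RingHom.Finite.to_isIntegral (π.finite_app U.1 U.2)) b
    refine ⟨P.map (AdjoinRoot.of _), hP.map _, ?_⟩
    rw [eval₂_map]
    erw [AdjoinRoot.lift_comp_of]
    exact hPb
  have hP : IsAffineOpen (π ⁻¹ᵁ U.1) := U.2.preimage π
  have hga : ψ (AdjoinRoot.of _ a) = π.app U.1 a := AdjoinRoot.lift_of _
  have hu : IsUnit (φ a) := IsLocalization.Away.algebraMap_isUnit a
  have hgS : IsSMulRegular (AdjoinRoot (Polynomial.X ^ N - C f : Γ(X, U.1)[X])) (AdjoinRoot.of (Polynomial.X ^ N - C f) a) := by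
    intro y z hyz
    refine hmj ((hu.map (AdjoinRoot.of _)).mul_left_cancel ?_)
    have := congrArg (mapAdjoin φ f N) hyz
    simp only [smul_eq_mul, map_mul] at this
    rw [← AdjoinRoot.mk_C, mapAdjoin_mk, map_C, AdjoinRoot.mk_C] at this
    exact this
  -- sections killed by `a` vanish
  have hgB : IsSMulRegular Γ(Y, π ⁻¹ᵁ U.1) (ψ (AdjoinRoot.of _ a)) := by
    rw [hga]
    refine isSMulRegular_app R hN ⟨hfin, hY, W₀, hW₀, hW₀', hbij⟩ U he f hf fun h => ?_
    rw [h, map_zero] at hu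
    exact not_isUnit_zero hu
  refine ⟨hinj, surjective_of_away hS ψ hinj hint _ hgS hgB fun b => ?_⟩
  obtain ⟨σ, hσ⟩ := hψV.2 (Y.presheaf.map (homOfLE (π.preimage_mono hVU)).op b)
  obtain ⟨n, z, hz⟩ := exists_mapAdjoin_eq a f σ
  -- sections vanishing where `a` is invertible are killed by a power of `a`
  letI := (Y.presheaf.map (homOfLE (π.preimage_mono hVU)).op).hom.toAlgebra
  haveI : IsLocalization.Away (π.app U.1 a) Γ(Y, π ⁻¹ᵁ V.1) :=
    hP.isLocalization_of_eq_basicOpen (π.app U.1 a) (homOfLE (π.preimage_mono hVU)) (Scheme.preimage_basicOpen π a)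
  have h5 : algebraMap Γ(Y, π ⁻¹ᵁ U.1) Γ(Y, π ⁻¹ᵁ V.1) (ψ (AdjoinRoot.of _ a) ^ n * b) =
      algebraMap Γ(Y, π ⁻¹ᵁ U.1) Γ(Y, π ⁻¹ᵁ V.1) (ψ z) := by
    rw [RingHom.algebraMap_toAlgebra]
    change _ = Y.presheaf.map (homOfLE (π.preimage_mono hVU)).op (ψ z)
    rw [sq]
    erw [hz]
    rw [map_mul, map_mul, map_pow, map_pow]
    congr 1
    · congr 1
      exact sq _
    · exact hσ.symm
  obtain ⟨⟨c, m, rfl⟩, hc⟩ := (IsLocalization.eq_iff_exists (Submonoid.powers (π.app U.1 a)) _).1 h5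
  exact ⟨n, z, ((hga ▸ hgB).pow m) hc⟩

end Cover

end Groth.Agent.H26Cyc
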