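import Groth.Agent.H26Cyc.Geo
import Groth.Agent.S17396

/-!
# Consequences of the local charts of a normalised cyclic cover
-/

set_option autoImplicit false
set_option linter.style.haveILetI false
set_option backward.isDefEq.respectTransparency false
set_option maxHeartbeats 1000000

universe u

open CategoryTheory CategoryTheory.Limits AlgebraicGeometry Opposite TopologicalSpace

namespace Groth.Agent.H26Cyc

variable {k : Type u} [Field k] {X Y : Scheme.{u}}

/-- The open set missing all the components. -/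
def offDiv {r : ℕ} (D : Fin r → X.IdealSheafData) : X.Opens :=
  ⟨(⋃ i, ((D i).support : Set X))ᶜ, (isClosed_iUnion_of_finite fun i => (D i).support.isClosed).isOpen_compl⟩

theorem mem_offDiv {r : ℕ} {D : Fin r → X.IdealSheafData} {x : X} (h : ¬ Nonempty (LogNCD.Through D x)) :
    x ∈ offDiv D := fun hx => by
  obtain ⟨i, hi⟩ := Set.mem_iUnion.1 hx
  exact h ⟨⟨i, hi⟩⟩

theorem disjoint_offDiv {r : ℕ} (D : Fin r → X.IdealSheafData) (W : X.Opens) (j : Fin r) :
    Disjoint ((W ⊓ offDiv D : X.Opens) : Set X) ((D j).support : Set X) :=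
  Set.disjoint_left.2 fun _ hx hj => hx.2 (Set.mem_iUnion.2 ⟨j, hj⟩)

/-- An index through `x` outside of which the multiplicities at `x` vanish. -/
theorem exists_main {r : ℕ} {D : Fin r → X.IdealSheafData} {α : Fin r → ℕ} {x : X}
    (h : ∀ j j' : Fin r, 0 < α j → 0 < α j' → x ∈ (D j).support → x ∈ (D j').support → j = j')
    (hne : Nonempty (LogNCD.Through D x)) :
    ∃ i₀ : LogNCD.Through D x, ∀ i : Fin r, x ∈ (D i).support → i ≠ i₀.1 → α i = 0 := by
  by_cases hb : ∃ i : LogNCD.Through D x, 0 < α i.1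
  · obtain ⟨i₀, h₀⟩ := hb
    exact ⟨i₀, fun i hi hne => Nat.eq_zero_of_not_pos fun hp => hne (h i i₀.1 hp h₀ hi i₀.2)⟩
  · obtain ⟨i₀⟩ := hne
    exact ⟨i₀, fun i hi _ => Nat.eq_zero_of_not_pos fun hp => hb ⟨⟨i, hi⟩, hp⟩⟩

theorem smooth_of_coords (g : Y ⟶ Spec (CommRingCat.of k)) (V : Y.affineOpens) {n : ℕ} (u : Fin n → Γ(Y, V.1))
    (hu : letI := kAlg g V.1; (MvPolynomial.aeval u : MvPolynomial (Fin n) k →ₐ[k] Γ(Y, V.1)).toRingHom.Etale) :
    Smooth (V.1.ι ≫ g) := by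
  letI := kAlg g V.1
  have h1 : (algebraMap k Γ(Y, V.1)).Smooth := by
    have h0 : (algebraMap k (MvPolynomial (Fin n) k)).Smooth := by
      rw [RingHom.smooth_algebraMap]
      exact ⟨inferInstance, inferInstance⟩
    have h2 := RingHom.Smooth.stableUnderComposition _ _ h0 ((RingHom.etale_iff_formallyUnramified_and_smooth _).1 hu).2
    rwa [AlgHom.toRingHom_eq_coe, AlgHom.comp_algebraMap] at h2
  haveI : Smooth (Spec.map (CommRingCat.ofHom (algebraMap k Γ(Y, V.1)))) :=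
    (HasRingHomProperty.Spec_iff (P := @Smooth)).2 h1
  have h3 : g.appLE ⊤ V.1 le_top =
      (Scheme.ΓSpecIso (CommRingCat.of k)).hom ≫ CommRingCat.ofHom (algebraMap k Γ(Y, V.1)) := by
    rw [RingHom.algebraMap_toAlgebra, CommRingCat.ofHom_hom, Iso.hom_inv_id_assoc]
  have h4 : V.1.ι ≫ g = V.2.isoSpec.hom ≫ Spec.map (g.appLE ⊤ V.1 le_top) ≫ (isAffineOpen_top (Spec (CommRingCat.of k))).fromSpec := by
    rw [IsAffineOpen.SpecMap_appLE_fromSpec _ (isAffineOpen_top _) V.2,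
      ← IsAffineOpen.isoSpec_inv_ι, Category.assoc, Iso.hom_inv_id_assoc]
  rw [h4, h3, Spec.map_comp]
  infer_instance

/-- An étale chart from étale coordinates on an affine open. -/
theorem etale_homOfVector (g : Y ⟶ Spec (CommRingCat.of k)) (V : Y.affineOpens) {n : ℕ} (u : Fin n → Γ(Y, V.1))
    (hu : letI := kAlg g V.1; (MvPolynomial.aeval u : MvPolynomial (Fin n) k →ₐ[k] Γ(Y, V.1)).toRingHom.Etale) :
    Etale (AffineSpace.homOfVector (V.1.ι ≫ g) fun j : ULift.{u} (Fin n) => V.1.topIso.inv (u j.down)) := by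
  letI := kAlg g V.1
  haveI : IsAffine V.1.toScheme := V.2
  have hv : (MvPolynomial.eval₂Hom (V.1.ι ≫ g).appTop.hom
      fun j : ULift.{u} (Fin n) => V.1.topIso.inv (u j.down)).Etale := by
    let e₁ := MvPolynomial.mapEquiv (ULift.{u} (Fin n)) (Scheme.ΓSpecIso (CommRingCat.of k)).commRingCatIsoToRingEquiv
    let e₂ := (MvPolynomial.renameEquiv k (Equiv.ulift.{u} : ULift.{u} (Fin n) ≃ Fin n)).toRingEquiv
    convert RingHom.Etale.stableUnderComposition _ V.1.topIso.inv.hom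
      (RingHom.Etale.stableUnderComposition (e₁.trans e₂).toRingHom _
        (RingHom.Etale.of_bijective (e₁.trans e₂).bijective) hu)
      (RingHom.Etale.of_bijective (ConcreteCategory.bijective_of_isIso V.1.topIso.inv)) using 1
    refine MvPolynomial.ringHom_ext (fun c => ?_) fun j => ?_
    · have h : (V.1.ι ≫ g).appTop = g.appLE ⊤ V.1 le_top ≫ V.1.topIso.inv := by
        simp [Scheme.Hom.appLE, Scheme.Hom.appTop, ← Functor.map_comp]
      simp [e₁, e₂, h, RingHom.algebraMap_toAlgebra]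
      have h5 : (Scheme.ΓSpecIso (CommRingCat.of k)).inv
          ((Scheme.ΓSpecIso (CommRingCat.of k)).commRingCatIsoToRingEquiv c) = c :=
        Iso.hom_inv_id_apply (Scheme.ΓSpecIso (CommRingCat.of k)) c
      erw [h5]
      rw [← CommRingCat.comp_apply, Scheme.Hom.appLE_map]
    · simp [e₁, e₂]
  rw [← MorphismProperty.cancel_right_of_respectsIso (P := @Etale) _
      (AffineSpace.isoOfIsAffine (ULift.{u} (Fin n)) (Spec (CommRingCat.of k))).hom,
    HasRingHomProperty.iff_of_isAffine (P := @Etale), Scheme.Hom.comp_appTop, AffineSpace.isoOfIsAffine_hom_appTop,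
    Category.assoc, CommRingCat.hom_comp, RingHom.Etale.respectsIso.cancel_left_isIso]
  convert hv using 1
  · rfl
  refine MvPolynomial.ringHom_ext' ?_ fun i => ?_
  · simp only [CommRingCat.hom_comp, CommRingCat.hom_ofHom, RingHom.comp_assoc, MvPolynomial.eval₂Hom_comp_C]
    rw [← CommRingCat.hom_comp, ← Scheme.Hom.comp_appTop, AffineSpace.homOfVector_over]
  · rw [CommRingCat.hom_comp, RingHom.comp_apply, CommRingCat.hom_ofHom, MvPolynomial.eval₂Hom_X',
      MvPolynomial.eval₂Hom_X']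
    exact AffineSpace.homOfVector_appTop_coord _ _ _

/-- Ideal sheaves agreeing near every point of an affine open agree on it. -/
theorem ideal_eq_of_local (I J : Y.IdealSheafData) (V : Y.affineOpens)
    (h : ∀ y ∈ V.1, ∃ V' : Y.affineOpens, y ∈ V'.1 ∧ I.ideal V' = J.ideal V') : I.ideal V = J.ideal V := by
  haveI : IsAffine V.1.toScheme := V.2
  have h1 : I.comap V.1.ι = J.comap V.1.ι := by
    refine H29Blow.ext_of_forall_exists fun z => ?_
    obtain ⟨V', hzV', heq⟩ := h (V.1.ι z) z.2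
    obtain ⟨O, hO, hzO, hOle⟩ := exists_isAffineOpen_mem_and_subset (U := V.1 ⊓ V'.1) ⟨z.2, hzV'⟩
    have hOV : O ≤ V.1 := fun t ht => (hOle ht).1
    have hOV' : O ≤ V'.1 := fun t ht => (hOle ht).2
    refine ⟨⟨V.1.ι ⁻¹ᵁ O, hO.preimage_of_isOpenImmersion V.1.ι (by rw [Scheme.Opens.opensRange_ι]; exact hOV)⟩, hzO, ?_⟩
    rw [H29Blow.ideal_comap I V.1.ι ⟨O, hO⟩ _ le_rfl, H29Blow.ideal_comap J V.1.ι ⟨O, hO⟩ _ le_rfl,
      ← I.map_ideal (U := ⟨O, hO⟩) (V := V') hOV', ← J.map_ideal (U := ⟨O, hO⟩) (V := V') hOV', heq]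
  have h2 := H29Blow.ideal_comap_ι I V
  rw [h1, H29Blow.ideal_comap_ι J V] at h2
  have h3 := congrArg (Ideal.map V.1.topIso.hom.hom) h2
  simp only [Ideal.map_map, ← CommRingCat.hom_comp, Iso.inv_hom_id, CommRingCat.hom_id, Ideal.map_id] at h3
  exact h3.symm

variable [IsAlgClosed k] [IsIntegral X] (f : X ⟶ Spec (CommRingCat.of k)) [Smooth f]
  {L : X.Modules} {N : ℕ} {s : Coh.structureModule X ⟶ CohB1.tensorPow L N}
  {r : ℕ} {D : Fin r → X.IdealSheafData} {α : Fin r → ℕ} {π : Y ⟶ X}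

theorem exists_smooth_nhd (hL : PicF.IsInvertible L) (hN : 0 < N) (hNk : (N : k) ≠ 0) (hD : LogNCD.IsNCD D f)
    (hs : CycCov.IsZeroDiv (CohB1.tensorPow L N) s (CycCov.divIdeal D α))
    (R : CycCov.Root L N s π) (hR : CycCov.IsCover R) (W : X.Opens) (y : Y) (hyW : π y ∈ W)
    (hy : ∀ j j' : Fin r, 0 < α j → 0 < α j' → π y ∈ (D j).support → π y ∈ (D j').support → j = j') :
    ∃ (V : Y.Opens) (_ : y ∈ V) (_ : V ≤ π ⁻¹ᵁ W), Smooth (V.ι ≫ π ≫ f) := by
  by_cases hne : Nonempty (LogNCD.Through D (π y))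
  · obtain ⟨i₀, hi₀⟩ := exists_main hy hne
    obtain ⟨V, hyV, hVW, n, u, σ, hu, -⟩ := exists_model f hL hN hNk hD hs R hR W y hyW i₀ hi₀
    exact ⟨V.1, hyV, hVW, smooth_of_coords (π ≫ f) V u hu⟩
  · haveI := S17396.result f L hL N hN hNk D α hD s hs π R hR (W ⊓ offDiv D) fun j _ => disjoint_offDiv D W j
    refine ⟨π ⁻¹ᵁ (W ⊓ offDiv D), ⟨hyW, mem_offDiv hne⟩, π.preimage_mono inf_le_left, ?_⟩
    rw [← morphismRestrict_ι_assoc]
    infer_instance

end Groth.Agent.H26Cyc
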