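import Groth.Agent.H06DiffOp.DividedPower
import Mathlib

/-!
# Changing one étale coordinate
-/

set_option autoImplicit false
set_option linter.style.haveILetI false
set_option maxHeartbeats 1000000

universe u

open MvPolynomial KaehlerDifferential
open scoped TensorProduct

namespace Groth.Agent.H26Cyc

variable {k G : Type u} [CommRing k] [CommRing G] [Algebra k G] {n : ℕ}

theorem exists_basis_D (w : Fin n → G) (hw : (aeval w : MvPolynomial (Fin n) k →ₐ[k] G).toRingHom.Etale) :
    Algebra.FormallySmooth k G ∧ Algebra.FinitePresentation k G ∧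
      ∃ b : Module.Basis (Fin n) G (KaehlerDifferential k G), ∀ i, b i = D k G (w i) := by
  letI := (aeval w : MvPolynomial (Fin n) k →ₐ[k] G).toRingHom.toAlgebra
  haveI : IsScalarTower k (MvPolynomial (Fin n) k) G :=
    IsScalarTower.of_algebraMap_eq fun a => ((aeval w).commutes a).symm
  haveI : Algebra.Etale (MvPolynomial (Fin n) k) G := hw
  refine ⟨Algebra.FormallySmooth.comp k (MvPolynomial (Fin n) k) G,
    Algebra.FinitePresentation.trans k (MvPolynomial (Fin n) k) G, ?_⟩
  refine ⟨((mvPolynomialBasis k (Fin n)).baseChange G).map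
      (tensorKaehlerEquivOfFormallyEtale k (MvPolynomial (Fin n) k) G), fun i => ?_⟩
  have h1 : mvPolynomialBasis k (Fin n) i = D _ _ (MvPolynomial.X i) := by
    apply (mvPolynomialBasis k (Fin n)).repr.injective
    rw [Module.Basis.repr_self, mvPolynomialBasis_repr_D_X]
  simp [h1, RingHom.algebraMap_toAlgebra]

/-- Replacing the `e`-th étale coordinate by an element with unit `e`-th partial derivative gives étale coordinates. -/
theorem etale_update [Algebra.FormallySmooth k G] [Algebra.FinitePresentation k G] (w : Fin n → G)
    (b : Module.Basis (Fin n) G (KaehlerDifferential k G)) (hb : ∀ i, b i = D k G (w i)) (e : Fin n) (y : G)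
    (hy : IsUnit (b.repr (D k G y) e)) :
    (aeval (Function.update w e y) : MvPolynomial (Fin n) k →ₐ[k] G).toRingHom.Etale := by
  classical
  let φ : KaehlerDifferential k G →ₗ[G] KaehlerDifferential k G :=
    b.constr G fun i => D k G (Function.update w e y i)
  have hmem : ∀ i, i ≠ e → b i ∈ LinearMap.range φ := fun i hi =>
    ⟨b i, by rw [Module.Basis.constr_basis, Function.update_of_ne hi, hb]⟩
  have hsurj : Function.Surjective φ := by
    rw [← LinearMap.range_eq_top, eq_top_iff, ← b.span_eq, Submodule.span_le]
    rintro _ ⟨i, rfl⟩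
    by_cases hi : i = e
    · subst hi
      refine (Submodule.smul_mem_iff_of_isUnit _ hy).1 ?_
      have h := b.sum_repr (D k G y)
      rw [← Finset.add_sum_erase _ _ (Finset.mem_univ i)] at h
      rw [eq_sub_of_add_eq h]
      refine Submodule.sub_mem _ ⟨b i, by rw [Module.Basis.constr_basis, Function.update_self]⟩ ?_
      exact Submodule.sum_mem _ fun j hj => Submodule.smul_mem _ _ (hmem j (Finset.ne_of_mem_erase hj))
    · exact hmem i hi
  haveI : Module.Finite G (KaehlerDifferential k G) := Module.Finite.of_basis b
  have hbij : Function.Bijective φ := OrzechProperty.bijective_of_surjective_endomorphism φ hsurj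
  letI := (aeval (Function.update w e y) : MvPolynomial (Fin n) k →ₐ[k] G).toRingHom.toAlgebra
  haveI : IsScalarTower k (MvPolynomial (Fin n) k) G :=
    IsScalarTower.of_algebraMap_eq fun a => ((aeval (Function.update w e y)).commutes a).symm
  haveI : Algebra.FormallyEtale (MvPolynomial (Fin n) k) G :=
    H06DiffOp.formallyEtale_of_basis (Function.update w e y) (fun i => MvPolynomial.aeval_X _ i)
      (b.map (LinearEquiv.ofBijective φ hbij)) fun i => by
        simp [φ]
  haveI : Algebra.FinitePresentation (MvPolynomial (Fin n) k) G :=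
    Algebra.FinitePresentation.of_restrict_scalars_finitePresentation k (MvPolynomial (Fin n) k) G
  exact RingHom.etale_algebraMap.2 ⟨inferInstance, inferInstance⟩

/-- The image of a coordinate of a localisation. -/
theorem repr_D_map {G' : Type u} [CommRing G'] [Algebra k G'] (f : G →ₐ[k] G') (w : Fin n → G)
    (b : Module.Basis (Fin n) G (KaehlerDifferential k G)) (hb : ∀ i, b i = D k G (w i))
    (b' : Module.Basis (Fin n) G' (KaehlerDifferential k G')) (hb' : ∀ i, b' i = D k G' (f (w i)))
    (y : G) (e : Fin n) : b'.repr (D k G' (f y)) e = f (b.repr (D k G y) e) := by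
  letI := f.toRingHom.toAlgebra
  haveI : IsScalarTower k G G' := IsScalarTower.of_algebraMap_eq fun a => (f.commutes a).symm
  have h : D k G' (f y) = ∑ i, f (b.repr (D k G y) i) • b' i := by
    have h1 := congrArg (KaehlerDifferential.map k k G G') (b.sum_repr (D k G y))
    rw [map_sum] at h1
    simp only [map_smul, hb, map_D, algebraMap_smul] at h1
    refine h1.symm.trans (Finset.sum_congr rfl fun i _ => ?_)
    rw [hb', ← algebraMap_smul G' (b.repr (D k G y) i)]
    rfl
  rw [h, map_sum]
  simp [Finsupp.single_apply]

end Groth.Agent.H26Cyc
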