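import Groth.Agent.H26Cyc.Local
import Groth.Agent.H27LogNCD.Coords
import Groth.Agent.S11192
import Groth.Prelude.Def_LogNCD
import Mathlib

/-!
# Frames adapted to a normal crossing divisor
-/

set_option autoImplicit false
set_option linter.style.haveILetI false
set_option backward.isDefEq.respectTransparency false
set_option maxHeartbeats 1000000

universe u

open CategoryTheory CategoryTheory.Limits AlgebraicGeometry Opposite TopologicalSpace

namespace Groth.Agent.H26Cyc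

variable {k : Type u} [Field k] {X : Scheme.{u}}

/-- The `k`-algebra structure of the sections of a `k`-scheme. -/
noncomputable abbrev kAlg (f : X ⟶ Spec (CommRingCat.of k)) (U : X.Opens) : Algebra k Γ(X, U) :=
  ((Scheme.ΓSpecIso (CommRingCat.of k)).inv ≫ f.appLE ⊤ U le_top).hom.toAlgebra

theorem ne_zero_of_etale {A : Type u} [CommRing A] [Algebra k A] [Nontrivial A] {n : ℕ} (w : Fin n → A)
    (hw : (MvPolynomial.aeval w : MvPolynomial (Fin n) k →ₐ[k] A).toRingHom.Etale) (j : Fin n) : w j ≠ 0 := by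
  intro h
  letI := (MvPolynomial.aeval w : MvPolynomial (Fin n) k →ₐ[k] A).toRingHom.toAlgebra
  haveI : Algebra.Etale (MvPolynomial (Fin n) k) A := hw
  have hreg : IsSMulRegular A (MvPolynomial.X j : MvPolynomial (Fin n) k) :=
    (isRegular_iff_ne_zero.2 (MvPolynomial.X_ne_zero j)).isSMulRegular
  have h1 : (MvPolynomial.X j : MvPolynomial (Fin n) k) • (1 : A) = (MvPolynomial.X j : MvPolynomial (Fin n) k) • 0 := by
    rw [smul_zero, Algebra.smul_def, mul_one]
    exact (MvPolynomial.aeval_X _ j).trans h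
  exact one_ne_zero (hreg h1)

/-- The smooth standard model. -/
theorem smooth_std {A : Type u} [CommRing A] [Algebra k A] {d N' r : ℕ} (hd : 0 < d) (hN' : 0 < N') (v : Aˣ)
    {x : A} {n : ℕ} (w : Fin n → A)
    (hw : (MvPolynomial.aeval w : MvPolynomial (Fin n) k →ₐ[k] A).toRingHom.Etale)
    (hdA : IsUnit (d : A)) (hNA : IsUnit (N' : A)) (e : Fin n) (he : w e = x) :
    (algebraMap k (Std v x d N' r)).Smooth := by
  obtain ⟨g, hg, het⟩ := exists_etale_near_zero v (N' := N') (r := r) hd w hw hdA e he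
  have key : ∀ (T : Type u) (_ : CommRing T) (φ : Std v x d N' r →+* T) (w' : Fin n → T),
      (MvPolynomial.eval₂Hom (φ.comp (algebraMap k (Std v x d N' r))) w').Etale →
        (φ.comp (algebraMap k (Std v x d N' r))).Smooth := fun T _ φ w' h => by
    have h1 : (MvPolynomial.C : k →+* MvPolynomial (Fin n) k).Smooth := by
      rw [← MvPolynomial.algebraMap_eq, RingHom.smooth_algebraMap]
      exact ⟨inferInstance, inferInstance⟩
    have h2 := RingHom.Smooth.stableUnderComposition _ _ h1 ((RingHom.etale_iff_formallyUnramified_and_smooth _).1 h).2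
    rwa [MvPolynomial.eval₂Hom_comp_C] at h2
  refine RingHom.Smooth.propertyIsLocal.ofLocalizationSpanTarget _
    {AdjoinRoot.of _ g, AdjoinRoot.of _ (algebraMap A (Std₁ v d) x)} ?_ ?_
  · have := congrArg (Ideal.map (AdjoinRoot.of (stdPoly v x d N' r))) hg
    rwa [Ideal.map_span, Set.image_pair, Ideal.map_top] at this
  · rintro ⟨b, hb | hb⟩
    · obtain rfl : b = AdjoinRoot.of _ g := hb
      exact key _ _ _ _ (het _)
    · obtain rfl : b = AdjoinRoot.of _ (algebraMap A (Std₁ v d) x) := hb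
      exact key _ _ _ _ (etale_away_x v hd hN' w hw hdA hNA _)

variable [IsIntegral X] (f : X ⟶ Spec (CommRingCat.of k))
  {L : X.Modules} {N : ℕ} {s : Coh.structureModule X ⟶ CohB1.tensorPow L N}
  {r : ℕ} {D : Fin r → X.IdealSheafData} {α : Fin r → ℕ}

/-- A frame of `L` with étale coordinates adapted to the divisor, in which the section is a unit times a power of
one coordinate. -/
theorem exists_frame_coords (hL : PicF.IsInvertible L) (hD : LogNCD.IsNCD D f)
    (hs : CycCov.IsZeroDiv (CohB1.tensorPow L N) s (CycCov.divIdeal D α))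
    (W : X.Opens) (x : X) (hxW : x ∈ W) (i₀ : LogNCD.Through D x)
    (hone : ∀ i : Fin r, x ∈ (D i).support → i ≠ i₀.1 → α i = 0) :
    ∃ (U : X.affineOpens) (_ : x ∈ U.1) (_ : U.1 ≤ W) (e : Γ(L, U.1)) (_ : H11Tilde.IsGen L e)
      (n : ℕ) (w : Fin n → Γ(X, U.1)) (σ : LogNCD.Through D x → Fin n) (v : Γ(X, U.1)ˣ),
      letI := kAlg f U.1
      (MvPolynomial.aeval w : MvPolynomial (Fin n) k →ₐ[k] Γ(X, U.1)).toRingHom.Etale ∧
      Function.Injective σ ∧ (∀ i : LogNCD.Through D x, (D i.1).ideal U = Ideal.span {w (σ i)}) ∧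
      (∀ i : Fin r, x ∉ (D i).support → (D i).ideal U = ⊤) ∧
      w (σ i₀) ≠ 0 ∧
      SecTwist.val s U.1 = ((v : Γ(X, U.1)) * w (σ i₀) ^ α i₀.1) • CycCov.lpow L U.1 e N := by
  obtain ⟨W₁, hxW₁, n, v₁, σ, hσ, het, hon, hoff⟩ := hD x ⟨i₀⟩
  obtain ⟨V, e₀, hxV, he₀⟩ := H11Ample.exists_gen hL x
  obtain ⟨U, hU, hxU, hUle⟩ := exists_isAffineOpen_mem_and_subset (U := V ⊓ W ⊓ W₁) ⟨⟨hxV, hxW⟩, hxW₁⟩
  have hUV : U ≤ V := fun z hz => (hUle hz).1.1
  have hUW : U ≤ W := fun z hz => (hUle hz).1.2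
  have hUW₁ : U ≤ W₁ := fun z hz => (hUle hz).2
  haveI : Nonempty U := ⟨⟨x, hxU⟩⟩
  letI := kAlg f U
  let w : Fin n → Γ(X, U) := fun j => LogNCD.sectOn W₁ hUW₁ (v₁ (ULift.up j))
  have hw : (MvPolynomial.aeval w : MvPolynomial (Fin n) k →ₐ[k] Γ(X, U)).toRingHom.Etale := by
    have h := H27LogNCD.etale_eval₂ f W₁ v₁ het hU hUW₁ (isAffineOpen_top _) (h := le_top)
    let e₁ := MvPolynomial.mapEquiv (ULift.{u} (Fin n)) (Scheme.ΓSpecIso (CommRingCat.of k)).symm.commRingCatIsoToRingEquiv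
    let e₂ := (MvPolynomial.renameEquiv k (Equiv.ulift.{u}.symm : Fin n ≃ ULift.{u} (Fin n))).toRingEquiv
    convert RingHom.Etale.stableUnderComposition (e₂.trans e₁).toRingHom _
      (RingHom.Etale.of_bijective (e₂.trans e₁).bijective) h using 1
    refine MvPolynomial.ringHom_ext (fun a => ?_) fun j => ?_
    · simp [e₁, e₂, RingHom.algebraMap_toAlgebra]
      rfl
    · simp [e₁, e₂, w]
  have hideal : (CycCov.divIdeal D α).ideal ⟨U, hU⟩ = Ideal.span {w (σ i₀) ^ α i₀.1} := by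
    rw [CycCov.divIdeal, ← Finset.mul_prod_erase _ _ (Finset.mem_univ i₀.1), Scheme.IdealSheafData.ideal_mul,
      Pi.mul_apply, Scheme.IdealSheafData.ideal_pow, Pi.pow_apply, hon i₀ ⟨U, hU⟩ hUW₁, Ideal.span_singleton_pow]
    refine (congrArg (_ * ·) ?_).trans (Ideal.mul_top _)
    refine Finset.prod_induction _ (fun I : X.IdealSheafData => I.ideal ⟨U, hU⟩ = ⊤) (fun I J hI hJ => ?_) ?_ fun i hi => ?_
    · rw [Scheme.IdealSheafData.ideal_mul, Pi.mul_apply, hI, hJ, Ideal.top_mul]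
    · rw [Scheme.IdealSheafData.one_eq_top, Scheme.IdealSheafData.ideal_top]; rfl
    · rw [Scheme.IdealSheafData.ideal_pow, Pi.pow_apply]
      by_cases hx : x ∈ (D i).support
      · rw [hone i hx (Finset.ne_of_mem_erase hi), pow_zero, Ideal.one_eq_top]
      · rw [hoff i hx ⟨U, hU⟩ hUW₁, Ideal.top_pow]
  have he := he₀.res hUV
  have hb := bijective_smul (H11Ample.isGen_spow he N)
  rw [← lpow_eq_spow] at hb
  obtain ⟨c, hc⟩ := hb.2 (SecTwist.val s U : Γ(CohB1.tensorPow L N, U))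
  have h := hs ⟨U, hU⟩
  rw [hideal, Submodule.ideal_span_singleton_smul] at h
  let m := w (σ i₀) ^ α i₀.1
  have hw0 : w (σ i₀) ≠ 0 := ne_zero_of_etale w hw _
  have hm : m ≠ 0 := pow_ne_zero _ hw0
  obtain ⟨g, hg⟩ := Submodule.mem_span_singleton.1 (h.ge (Submodule.smul_mem_pointwise_smul _ m _
    (Submodule.mem_top (x := CycCov.lpow L U (L.presheaf.map (homOfLE hUV).op e₀) N))))
  obtain ⟨y, -, hy⟩ := h.le (Submodule.mem_span_singleton_self _)
  obtain ⟨l, rfl⟩ := hb.2 y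
  have h1 : g * c = m := hb.1 (by
    change (g * c) • (CycCov.lpow L U _ N : Γ(CohB1.tensorPow L N, U)) = m • _
    rw [mul_smul]
    exact (congrArg (g • ·) hc).trans hg)
  have h2 : c = m * l := hb.1 (by
    change c • (CycCov.lpow L U _ N : Γ(CohB1.tensorPow L N, U)) = (m * l) • _
    rw [mul_smul]
    exact hc.trans hy.symm)
  have h3 : IsUnit l := by
    refine IsUnit.of_mul_eq_one g (mul_left_cancel₀ hm ?_)
    rw [mul_one]
    conv_rhs => rw [← h1, h2]
    ring
  refine ⟨⟨U, hU⟩, hxU, hUW, _, he, n, w, σ, h3.unit, hw, hσ, fun i => hon i ⟨U, hU⟩ hUW₁,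
    fun i hi => hoff i hi ⟨U, hU⟩ hUW₁, hw0, ?_⟩
  rw [IsUnit.unit_spec, mul_comm]
  exact hc.symm.trans (congrArg (· • _) h2)

end Groth.Agent.H26Cyc
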