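import Groth.Agent.H28Neron.LftCriterion
import Mathlib

/-!
# Étale coordinates generate radical ideals
-/

set_option autoImplicit false
set_option linter.style.haveILetI false

universe u

open scoped TensorProduct

namespace Groth.Agent.H26Cyc

theorem isRadical_span_coord {k T : Type u} [Field k] [CommRing T] [Algebra k T] {n : ℕ} (w : Fin n → T)
    (hw : (MvPolynomial.aeval w : MvPolynomial (Fin n) k →ₐ[k] T).toRingHom.Etale) (j : Fin n) :
    (Ideal.span {w j}).IsRadical := by
  classical
  let P := MvPolynomial (Fin n) k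
  let σ := {i : Fin n // i ≠ j}
  let φ : P →ₐ[k] MvPolynomial σ k :=
    MvPolynomial.aeval fun i => if h : i = j then 0 else MvPolynomial.X ⟨i, h⟩
  let ψ : MvPolynomial σ k →ₐ[k] P := MvPolynomial.rename (fun i : σ => i.1)
  have hφψ : φ.comp ψ = AlgHom.id k _ := MvPolynomial.algHom_ext fun i => by
    rw [AlgHom.comp_apply, MvPolynomial.rename_X, MvPolynomial.aeval_X, dif_neg i.2]
    rfl
  have hsurj : Function.Surjective φ := fun p => ⟨ψ p, DFunLike.congr_fun hφψ p⟩
  let I : Ideal P := Ideal.span {MvPolynomial.X j}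
  have hker : RingHom.ker φ = I := by
    refine le_antisymm (fun p hp => ?_) ?_
    · have h : (Ideal.Quotient.mkₐ k I).comp (ψ.comp φ) = Ideal.Quotient.mkₐ k I :=
        MvPolynomial.algHom_ext fun i => by
          by_cases hi : i = j
          · subst hi
            simp [φ, I, (Ideal.Quotient.eq_zero_iff_mem (I := Ideal.span {(MvPolynomial.X i : P)})).2
              (Ideal.mem_span_singleton_self _)]
          · rw [AlgHom.comp_apply, AlgHom.comp_apply, MvPolynomial.aeval_X, dif_neg hi, MvPolynomial.rename_X]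
      have h1 := DFunLike.congr_fun h p
      rw [AlgHom.comp_apply, AlgHom.comp_apply, RingHom.mem_ker.1 hp, map_zero, map_zero] at h1
      exact Ideal.Quotient.eq_zero_iff_mem.1 h1.symm
    · rw [Ideal.span_singleton_le_iff_mem, RingHom.mem_ker]
      exact (MvPolynomial.aeval_X _ j).trans (dif_pos rfl)
  haveI : Algebra.Smooth k (MvPolynomial σ k) := ⟨inferInstance, inferInstance⟩
  haveI : Algebra.Smooth k (P ⧸ I) :=
    Algebra.Smooth.of_equiv ((Ideal.quotientKerAlgEquivOfSurjective hsurj).symm.trans (Ideal.quotientEquivAlgOfEq k hker))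
  letI := (MvPolynomial.aeval w : P →ₐ[k] T).toRingHom.toAlgebra
  haveI : Algebra.Etale P T := hw
  haveI : IsScalarTower k P T := IsScalarTower.of_algebraMap_eq fun a => ((MvPolynomial.aeval w).commutes a).symm
  haveI : Algebra.Smooth (P ⧸ I) ((P ⧸ I) ⊗[P] T) := inferInstance
  haveI : Algebra.Smooth k ((P ⧸ I) ⊗[P] T) := Algebra.Smooth.comp k (P ⧸ I) _
  haveI := H28Neron.LftCriterion.isReduced_of_smooth_field k ((P ⧸ I) ⊗[P] T)
  have hI : I.map (algebraMap P T) = Ideal.span {w j} := by
    rw [Ideal.map_span, Set.image_singleton, RingHom.algebraMap_toAlgebra]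
    congr 2
    exact MvPolynomial.aeval_X _ j
  rw [Ideal.isRadical_iff_quotient_reduced, ← hI]
  exact isReduced_of_injective
    ((Algebra.TensorProduct.quotIdealMapEquivTensorQuot T I).toRingEquiv.trans
      (Algebra.TensorProduct.comm P T (P ⧸ I)).toRingEquiv).toRingHom
    (RingEquiv.injective _)

end Groth.Agent.H26Cyc
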