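import Groth.Agent.H26Cyc.Frame
import Groth.Agent.H26Cyc.Radical
import Groth.Agent.H29Blow.Basic

/-!
# Étale charts of a normalised cyclic cover along one branch component
-/

set_option autoImplicit false
set_option linter.style.haveILetI false
set_option backward.isDefEq.respectTransparency false
set_option maxHeartbeats 1000000

universe u

open CategoryTheory CategoryTheory.Limits AlgebraicGeometry Opposite TopologicalSpace

namespace Groth.Agent.H26Cyc

variable {k : Type u} [Field k] {X Y : Scheme.{u}} [IsIntegral X] (f : X ⟶ Spec (CommRingCat.of k))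
  {L : X.Modules} {N : ℕ} {s : Coh.structureModule X ⟶ CohB1.tensorPow L N}
  {r : ℕ} {D : Fin r → X.IdealSheafData} {α : Fin r → ℕ} {π : Y ⟶ X}

/-- Bézout with a natural coefficient. -/
theorem exists_bezout {N' a' : ℕ} (hN' : 0 < N') (h : Nat.Coprime a' N') :
    ∃ (r : ℕ) (q : ℤ), q * N' + r * a' = 1 := by
  obtain ⟨c, m, hc⟩ := (Nat.isCoprime_iff_coprime.2 h : IsCoprime (a' : ℤ) (N' : ℤ))
  refine ⟨(c % N').toNat, m + a' * (c / N'), ?_⟩
  rw [Int.toNat_of_nonneg (Int.emod_nonneg _ (by omega))]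
  linear_combination hc + (a' : ℤ) * Int.emod_add_mul_ediv c N'

theorem isNormalRing_of_smooth {B : Type u} [CommRing B] [Algebra k B] (h : (algebraMap k B).Smooth) :
    EGA4.IsNormalRing B := by
  haveI : Smooth (Spec.map (CommRingCat.ofHom (algebraMap k B))) := (HasRingHomProperty.Spec_iff (P := @Smooth)).2 h
  exact H22Alg.NormalProd.isNormalRing_of_isNormalScheme_spec
    (H28Neron.isNormalScheme_of_smooth (Spec.map (CommRingCat.ofHom (algebraMap k B))) (S11192.isNormalScheme_spec_field k))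

/-- Étale coordinates on a normalised cyclic cover near a point lying over the divisor, where at most one component
with positive multiplicity passes. -/
theorem exists_model (hL : PicF.IsInvertible L) (hN : 0 < N) (hNk : (N : k) ≠ 0) (hD : LogNCD.IsNCD D f)
    (hs : CycCov.IsZeroDiv (CohB1.tensorPow L N) s (CycCov.divIdeal D α))
    (R : CycCov.Root L N s π) (hR : CycCov.IsCover R) (W : X.Opens) (y : Y) (hyW : π y ∈ W)
    (i₀ : LogNCD.Through D (π y)) (hone : ∀ i : Fin r, π y ∈ (D i).support → i ≠ i₀.1 → α i = 0) :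
    ∃ (V : Y.affineOpens) (_ : y ∈ V.1) (_ : V.1 ≤ π ⁻¹ᵁ W) (n : ℕ) (u : Fin n → Γ(Y, V.1))
      (σ : LogNCD.Through D (π y) → Fin n),
      letI := kAlg (π ≫ f) V.1
      (MvPolynomial.aeval u : MvPolynomial (Fin n) k →ₐ[k] Γ(Y, V.1)).toRingHom.Etale ∧
      Function.Injective σ ∧
      (∀ i : LogNCD.Through D (π y),
        ((D i.1).comap π).ideal V = Ideal.span {u (σ i)} ^ (N / Nat.gcd N (α i.1))) ∧
      (∀ i : LogNCD.Through D (π y), (((D i.1).comap π).radical).ideal V = Ideal.span {u (σ i)}) ∧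
      (∀ i : Fin r, π y ∉ (D i).support → ((D i).comap π).ideal V = ⊤) := by
  classical
  obtain ⟨U, hxU, hUW, e, he, n, w, σ, v, hw, hσ, hon, hoff, hw0, hval⟩ :=
    exists_frame_coords f hL hD hs W (π y) hyW i₀ hone
  letI := kAlg f U.1
  haveI : Nonempty U.1 := ⟨⟨π y, hxU⟩⟩
  let A : Type u := Γ(X, U.1)
  let x : A := w (σ i₀)
  let a := α i₀.1
  let d := Nat.gcd N a
  have hd : 0 < d := Nat.gcd_pos_of_pos_left _ hN
  obtain ⟨N', a', hcop, hNd, had⟩ := Nat.exists_coprime N a
  have hN' : 0 < N' := Nat.pos_of_mul_pos_right (hNd ▸ hN)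
  obtain ⟨ρ, q, hq⟩ := exists_bezout hN' hcop.symm
  have hNeq : N = d * N' := hNd.trans (mul_comm _ _)
  have haeq : a = d * a' := had.trans (mul_comm _ _)
  have hNA : IsUnit (d : A) ∧ IsUnit (N' : A) := by
    have h := (isUnit_iff_ne_zero.2 hNk).map (algebraMap k A)
    rw [map_natCast, hNeq, Nat.cast_mul] at h
    exact IsUnit.mul_iff.1 h
  have hfin := hR.1
  let K := FractionRing A
  let fA : A := (v : A) * w (σ i₀) ^ α i₀.1
  obtain ⟨ι, hι, hιφ, hιt⟩ := exists_embedding R hN hR U he fA hval K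
  obtain ⟨κ, hκ, hκψ, hκroot⟩ := exists_hom v (x := x) (r := ρ) hd hN' K hw0 hq hNeq (f := fA) (by
    show (v : A) * x ^ a = _
    rw [← haeq])
  haveI := finite_std v x ρ hd hN'
  have hP : IsAffineOpen (π ⁻¹ᵁ U.1) := U.2.preimage π
  obtain ⟨E, hEψ, -⟩ := exists_equiv K (π.app U.1).hom ι hιφ ⟨_, hιt⟩ (algebraMap A (Std v x d N' ρ)) κ hκψ hκroot
    (H28Neron.isNormalRing_sections hR.2.1 hP) hι (RingHom.Finite.to_isIntegral (π.finite_app U.1 U.2))
    (isNormalRing_of_smooth (smooth_std hd hN' v w hw hNA.1 hNA.2 (σ i₀) rfl)) hκ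
    (RingHom.Finite.to_isIntegral (RingHom.finite_algebraMap.2 inferInstance))
  have hE : ∀ b : A, E (algebraMap A (Std v x d N' ρ) b) = π.app U.1 b := fun b => RingHom.congr_fun hEψ b
  obtain ⟨g, hg, het⟩ := exists_etale_near_zero v (x := x) (N' := N') (r := ρ) hd w hw hNA.1 (σ i₀) rfl
  let gY : Γ(Y, π ⁻¹ᵁ U.1) := E (AdjoinRoot.of _ g)
  let V : Y.affineOpens := ⟨Y.basicOpen gY, hP.basicOpen gY⟩
  have hVU : V.1 ≤ π ⁻¹ᵁ U.1 := Y.basicOpen_le gY
  have hxnot : π y ∉ X.basicOpen x := by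
    have h := ((D i₀.1).mem_support_iff_of_mem hxU).1 i₀.2
    rw [hon i₀, Scheme.mem_zeroLocus_iff] at h
    exact h x (Ideal.mem_span_singleton_self _)
  have hyV : y ∈ V.1 := by
    obtain ⟨c₁, c₂, hc⟩ := Ideal.mem_span_pair.1 ((Ideal.eq_top_iff_one _).1 hg)
    have h1 := congrArg (fun b => Y.presheaf.germ (π ⁻¹ᵁ U.1) y hxU (E (AdjoinRoot.of (stdPoly v x d N' ρ) b))) hc
    simp only [map_add, map_mul, map_one] at h1
    rw [show E (AdjoinRoot.of _ (algebraMap A (Std₁ v d) x)) = π.app U.1 x from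
      (congrArg E (IsScalarTower.algebraMap_apply A (Std₁ v d) (Std v x d N' ρ) x).symm).trans (hE x)] at h1
    refine (Y.mem_basicOpen gY y hxU).2 (not_not.1 fun hgu => ?_)
    have hxu : ¬ IsUnit (Y.presheaf.germ (π ⁻¹ᵁ U.1) y hxU (π.app U.1 x)) := fun hu => hxnot (by
      have h2 : y ∈ Y.basicOpen (π.app U.1 x) := (Y.mem_basicOpen _ y hxU).2 hu
      rwa [← Scheme.preimage_basicOpen] at h2)
    exact (IsLocalRing.maximalIdeal.isMaximal _).ne_top ((Ideal.eq_top_iff_one _).2 (h1 ▸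
      Ideal.add_mem _ (Ideal.mul_mem_left _ _ hgu) (Ideal.mul_mem_left _ _ hxu)))
  -- the localisation of the standard model
  letI : Algebra (Std v x d N' ρ) Γ(Y, V.1) :=
    ((Y.presheaf.map (homOfLE hVU).op).hom.comp E.toRingHom).toAlgebra
  haveI : IsLocalization.Away (AdjoinRoot.of (stdPoly v x d N' ρ) g) Γ(Y, V.1) := by
    letI := (Y.presheaf.map (homOfLE hVU).op).hom.toAlgebra
    haveI : IsLocalization.Away gY Γ(Y, V.1) := hP.isLocalization_of_eq_basicOpen gY (homOfLE hVU) rfl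
    have h := IsLocalization.isLocalization_of_base_ringEquiv (Submonoid.powers gY) Γ(Y, V.1) E.symm
    rw [Submonoid.map_powers] at h
    change IsLocalization (Submonoid.powers (E.symm gY)) _ at h
    rw [E.symm_apply_apply] at h
    exact h
  letI := kAlg (π ≫ f) V.1
  let res : Γ(X, U.1) → Γ(Y, V.1) := fun b => Y.presheaf.map (homOfLE hVU).op (π.app U.1 b)
  have hres : ∀ b : A, algebraMap (Std v x d N' ρ) Γ(Y, V.1) (algebraMap A _ b) = res b := fun b =>
    congrArg (Y.presheaf.map (homOfLE hVU).op) (hE b)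
  let z : Γ(Y, V.1) := algebraMap (Std v x d N' ρ) Γ(Y, V.1) (AdjoinRoot.root _)
  let u : Fin n → Γ(Y, V.1) := Function.update (fun j => res (w j)) (σ i₀) z
  have hu : (MvPolynomial.aeval u : MvPolynomial (Fin n) k →ₐ[k] Γ(Y, V.1)).toRingHom.Etale := by
    convert het Γ(Y, V.1) using 1
    refine MvPolynomial.ringHom_ext (fun c => ?_) fun j => ?_
    · simp only [AlgHom.toRingHom_eq_coe, RingHom.coe_coe, MvPolynomial.aeval_C, MvPolynomial.eval₂Hom_C,
        RingHom.comp_apply]
      rw [IsScalarTower.algebraMap_apply k A (Std v x d N' ρ) c, hres]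
      have h := f.appLE ⊤ U.1 le_top
      have h3 : (π ≫ f).appLE ⊤ V.1 le_top = f.appLE ⊤ U.1 le_top ≫ π.app U.1 ≫ Y.presheaf.map (homOfLE hVU).op := by
        rw [Scheme.Hom.app_eq_appLE, Scheme.Hom.appLE_map, Scheme.Hom.appLE_comp_appLE]
      exact DFunLike.congr_fun (congrArg CommRingCat.Hom.hom
        (congrArg ((Scheme.ΓSpecIso (CommRingCat.of k)).inv ≫ ·) h3)) c
    · simp only [AlgHom.toRingHom_eq_coe, RingHom.coe_coe, MvPolynomial.aeval_X, MvPolynomial.eval₂Hom_X', u]
      by_cases hj : j = σ i₀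
      · subst hj; simp [z]
      · rw [Function.update_of_ne hj, Function.update_of_ne hj]
        exact (hres _).symm
  have hcomap : ∀ i : Fin r, ((D i).comap π).ideal V = ((D i).ideal U).map
      ((π.app U.1) ≫ Y.presheaf.map (homOfLE hVU).op).hom := fun i => by
    rw [H29Blow.ideal_comap (D i) π U V hVU, Scheme.Hom.app_eq_appLE, Scheme.Hom.appLE_map]
  have hideal : ∀ i : LogNCD.Through D (π y),
      ((D i.1).comap π).ideal V = Ideal.span {u (σ i)} ^ (N / Nat.gcd N (α i.1)) := fun i => by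
    rw [hcomap, hon i, Ideal.map_span, Set.image_singleton]
    change Ideal.span {res (w (σ i))} = _
    by_cases hi : i = i₀
    · subst hi
      have h1 : z ^ N' = algebraMap (Std v x d N' ρ) Γ(Y, V.1)
          (algebraMap (Std₁ v d) _ (AdjoinRoot.root _ ^ ρ)) * res (w (σ i)) := by
        rw [← map_pow, z_pow_eq, map_mul, map_mul, ← IsScalarTower.algebraMap_apply A (Std₁ v d) (Std v x d N' ρ),
          hres]
      have h4 : N / Nat.gcd N (α i.1) = N' := by
        show N / d = N'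
        rw [hNeq, Nat.mul_div_cancel_left _ hd]
      rw [h4, Ideal.span_singleton_pow, show u (σ i) = z from Function.update_self .., h1,
        Ideal.span_singleton_mul_left_unit ((((isUnit_root v hd).pow ρ).map _).map _)]
    · rw [hone i.1 i.2 fun h => hi (Subtype.ext h), Nat.gcd_zero_right, Nat.div_self hN, pow_one,
        show u (σ i) = res (w (σ i)) from Function.update_of_ne (fun h => hi (hσ h)) ..]
  refine ⟨V, hyV, hVU.trans (π.preimage_mono hUW), n, u, σ, hu, hσ, hideal, fun i => ?_, fun i hi => ?_⟩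
  · rw [Scheme.IdealSheafData.radical_ideal, hideal i, Ideal.radical_pow _ (Nat.pos_iff_ne_zero.1
      (Nat.div_pos (Nat.gcd_le_left _ hN) (Nat.gcd_pos_of_pos_left _ hN)))]
    exact (isRadical_span_coord u hu _).radical
  · rw [hcomap, hoff i hi, Ideal.map_top]

end Groth.Agent.H26Cyc
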