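import Groth.Agent.H26Cyc.Model
import Groth.Agent.H26Cyc.AdjoinBC
import Groth.Agent.H26Cyc.Coords

/-!
# The standard model of a normalised cyclic cover along one branch component

For `f = v * x ^ (d * a')` with `v` a unit and `q * N' + r * a' = 1` the normalisation of
`A[T]/(T ^ (d * N') - f)` is `A[η, z]/(η ^ d - v, z ^ N' - η ^ r * x)`.
-/

set_option autoImplicit false
set_option linter.style.haveILetI false
set_option backward.isDefEq.respectTransparency false
set_option maxHeartbeats 1000000

universe u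

open Polynomial
open scoped TensorProduct

namespace Groth.Agent.H26Cyc

noncomputable section

variable {A : Type u} [CommRing A] (v : Aˣ) (x : A) (d N' r : ℕ)

/-- `A[η]/(η ^ d - v)`. -/
abbrev Std₁ : Type u := AdjoinRoot (Polynomial.X ^ d - Polynomial.C (v : A))

/-- The equation `z ^ N' - η ^ r * x`. -/
abbrev stdPoly : (Std₁ v d)[X] :=
  Polynomial.X ^ N' - Polynomial.C (AdjoinRoot.root _ ^ r * algebraMap A (Std₁ v d) x)

/-- `A[η, z]/(η ^ d - v, z ^ N' - η ^ r * x)`. -/
abbrev Std : Type u := AdjoinRoot (stdPoly v x d N' r)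

theorem root_pow_eq : (AdjoinRoot.root _ : Std₁ v d) ^ d = algebraMap A _ (v : A) := by
  have h := AdjoinRoot.eval₂_root (Polynomial.X ^ d - Polynomial.C (v : A))
  rw [eval₂_sub, eval₂_X_pow, eval₂_C, sub_eq_zero] at h
  exact h

theorem isUnit_root {d : ℕ} (hd : 0 < d) : IsUnit (AdjoinRoot.root _ : Std₁ v d) :=
  (isUnit_pow_iff hd.ne').1 (root_pow_eq v d ▸ v.isUnit.map _)

theorem z_pow_eq : (AdjoinRoot.root _ : Std v x d N' r) ^ N' =
    algebraMap (Std₁ v d) _ (AdjoinRoot.root _ ^ r * algebraMap A (Std₁ v d) x) := by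
  have h := AdjoinRoot.eval₂_root (stdPoly v x d N' r)
  rw [eval₂_sub, eval₂_X_pow, eval₂_C, sub_eq_zero] at h
  exact h

variable {d N'} (hd : 0 < d) (hN' : 0 < N')

include hd hN' in
theorem finite_std : Module.Finite A (Std v x d N' r) := by
  haveI := Module.Finite.of_basis (AdjoinRoot.powerBasis' (monic_X_pow_sub_C (v : A) hd.ne')).basis
  haveI := Module.Finite.of_basis (AdjoinRoot.powerBasis'
    (monic_X_pow_sub_C (AdjoinRoot.root _ ^ r * algebraMap A (Std₁ v d) x) hN'.ne')).basis
  exact Module.Finite.trans (Std₁ v d) _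

variable {r x}

include hd hN' in
/-- The standard model inside `K[T]/(T ^ N - f)`. -/
theorem exists_hom [IsDomain A] (K : Type u) [Field K] [Algebra A K] [IsFractionRing A K] (hx : x ≠ 0)
    {a' : ℕ} {q : ℤ} (hq : q * N' + r * a' = 1) {N : ℕ} (hN : N = d * N') {f : A} (hf : f = v * x ^ (d * a')) :
    ∃ κ : Std v x d N' r →+* AdjoinRoot (Polynomial.X ^ N - Polynomial.C (algebraMap A K f)),
      Function.Injective κ ∧ κ.comp (algebraMap A (Std v x d N' r)) = (AdjoinRoot.of _).comp (algebraMap A K) ∧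
      AdjoinRoot.root _ ∈ κ.range := by
  classical
  subst hN
  let L := AdjoinRoot (Polynomial.X ^ (d * N') - Polynomial.C (algebraMap A K f))
  let ρ : A →+* L := (AdjoinRoot.of _).comp (algebraMap A K)
  have hT : (AdjoinRoot.root _ : L) ^ (d * N') = ρ f := by
    have h := AdjoinRoot.eval₂_root (Polynomial.X ^ (d * N') - Polynomial.C (algebraMap A K f))
    rw [eval₂_sub, eval₂_X_pow, eval₂_C, sub_eq_zero] at h
    exact h
  have hXu : IsUnit (ρ x) :=
    (IsUnit.mk0 (algebraMap A K x) ((map_ne_zero_iff _ (IsFractionRing.injective A K)).2 hx)).map (AdjoinRoot.of _)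
  have hTu : IsUnit (AdjoinRoot.root _ : L) := by
    refine (isUnit_pow_iff (Nat.mul_pos hd hN').ne').1 ?_
    rw [hT, show ρ f = _ from congrArg ρ hf, map_mul, map_pow]
    exact (v.isUnit.map ρ).mul (hXu.pow _)
  let T := hTu.unit
  let X₀ := hXu.unit
  let V₀ : Lˣ := (v.isUnit.map ρ).unit
  have hT' : T ^ (d * N') = V₀ * X₀ ^ (d * a') := Units.ext (by
    simp only [Units.val_pow_eq_pow_val, Units.val_mul, T, X₀, V₀, IsUnit.unit_spec, hT, show ρ f = _ from congrArg ρ hf, map_mul, map_pow])
  let η : Lˣ := T ^ N' * (X₀ ^ a')⁻¹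
  let z : Lˣ := X₀ ^ q * T ^ r
  have h1 : η ^ d = V₀ := by
    rw [mul_pow, inv_pow, ← pow_mul, ← pow_mul, mul_comm N' d, mul_comm a' d, hT', mul_inv_cancel_right]
  have h2 : z ^ N' = η ^ r * X₀ := by
    apply Additive.ofMul.injective
    simp only [η, z, ofMul_mul, ofMul_pow, ofMul_zpow, ofMul_inv]
    linear_combination (norm := module) hq • Additive.ofMul X₀
  have h3 : η ^ q * z ^ a' = T := by
    apply Additive.ofMul.injective
    simp only [η, z, ofMul_mul, ofMul_pow, ofMul_zpow, ofMul_inv]
    linear_combination (norm := module) hq • Additive.ofMul T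
  let κ₁ : Std₁ v d →+* L := AdjoinRoot.lift ρ η (by
    rw [eval₂_sub, eval₂_X_pow, eval₂_C, ← Units.val_pow_eq_pow_val, h1]
    exact sub_self _)
  have hκ₁ : κ₁ (AdjoinRoot.root _) = η := AdjoinRoot.lift_root _
  let κ : Std v x d N' r →+* L := AdjoinRoot.lift κ₁ z (by
    rw [eval₂_sub, eval₂_X_pow, eval₂_C, map_mul, map_pow, hκ₁, ← Units.val_pow_eq_pow_val, h2,
      Units.val_mul, Units.val_pow_eq_pow_val, sub_eq_zero]
    exact congrArg (_ * ·) (AdjoinRoot.lift_of _).symm)
  have hcomp : κ.comp (algebraMap A (Std v x d N' r)) = ρ := RingHom.ext fun a => by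
    rw [RingHom.comp_apply, IsScalarTower.algebraMap_apply A (Std₁ v d) (Std v x d N' r)]
    exact (AdjoinRoot.lift_of _).trans (AdjoinRoot.lift_of _)
  have hroot : AdjoinRoot.root _ ∈ κ.range := by
    let E := ((isUnit_root v hd).map (algebraMap (Std₁ v d) (Std v x d N' r))).unit
    have hE : Units.map (κ : Std v x d N' r →* L) E = η := Units.ext
      ((show κ (AdjoinRoot.of _ (AdjoinRoot.root _)) = κ₁ _ from AdjoinRoot.lift_of _).trans hκ₁)
    refine ⟨((E ^ q : (Std v x d N' r)ˣ) : Std v x d N' r) * AdjoinRoot.root _ ^ a', ?_⟩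
    rw [map_mul, map_pow, AdjoinRoot.lift_root]
    have hE' : κ ((E ^ q : (Std v x d N' r)ˣ) : Std v x d N' r) = ((η ^ q : Lˣ) : L) := by
      rw [← hE, ← map_zpow]
      rfl
    rw [hE', ← Units.val_pow_eq_pow_val, ← Units.val_mul, h3]
    rfl
  refine ⟨κ, ?_, hcomp, hroot⟩
  -- injectivity: the images of a basis span a space of dimension the rank
  let pb₁ := AdjoinRoot.powerBasis' (monic_X_pow_sub_C (v : A) hd.ne')
  let pb₂ := AdjoinRoot.powerBasis'
    (monic_X_pow_sub_C (AdjoinRoot.root _ ^ r * algebraMap A (Std₁ v d) x) hN'.ne')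
  let b := pb₁.basis.smulTower pb₂.basis
  have hκs : ∀ (a : A) (y : Std v x d N' r), κ (a • y) = algebraMap A K a • κ y := fun a y => by
    rw [Algebra.smul_def, map_mul, show κ (algebraMap A _ a) = _ from RingHom.congr_fun hcomp a, Algebra.smul_def]
    rfl
  have hspan : ⊤ ≤ Submodule.span K (Set.range (κ ∘ b)) := by
    rintro l -
    obtain ⟨a, c, ha, hc⟩ := exists_smul_mem_range K (algebraMap A (Std v x d N' r)) κ hcomp hroot l
    have h : κ c = algebraMap A K a • l := by
      rw [hc, show κ (algebraMap A _ a) = _ from RingHom.congr_fun hcomp a, Algebra.smul_def]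
      rfl
    refine (Submodule.smul_mem_iff_of_isUnit _
      (IsUnit.mk0 _ ((map_ne_zero_iff _ (IsFractionRing.injective A K)).2 ha))).1 (h ▸ ?_)
    rw [← b.sum_repr c, map_sum]
    refine Submodule.sum_mem _ fun i _ => ?_
    rw [hκs]
    exact Submodule.smul_mem _ _ (Submodule.subset_span ⟨i, rfl⟩)
  haveI hL : Module.finrank K L = d * N' := by
    rw [(AdjoinRoot.powerBasis (X_pow_sub_C_ne_zero (Nat.mul_pos hd hN') _)).finrank,
      AdjoinRoot.powerBasis_dim, natDegree_X_pow_sub_C]
  have hcard : Fintype.card (Fin pb₁.dim × Fin pb₂.dim) = d * N' := by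
    haveI : Nontrivial L := Module.nontrivial_of_finrank_pos (R := K) (by rw [hL]; exact Nat.mul_pos hd hN')
    haveI : Nontrivial (Std₁ v d) := κ₁.domain_nontrivial
    simp only [Fintype.card_prod, Fintype.card_fin, pb₁, pb₂, AdjoinRoot.powerBasis'_dim, natDegree_X_pow_sub_C]
  have hli := linearIndependent_of_top_le_span_of_card_eq_finrank hspan (hcard.trans hL.symm)
  rw [injective_iff_map_eq_zero]
  intro y hy
  rw [← b.sum_repr y, map_sum] at hy
  rw [Finset.sum_congr rfl fun i _ => hκs _ _] at hy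
  have hy' := Fintype.linearIndependent_iff.1 hli _ hy
  refine b.repr.injective (Finsupp.ext fun i => ?_)
  rw [map_zero, Finsupp.zero_apply]
  exact IsFractionRing.injective A K ((hy' i).trans (map_zero _).symm)

section Etale

variable {k : Type u} [CommRing k] [Algebra k A] {n : ℕ} (w : Fin n → A)
  (hw : (MvPolynomial.aeval w : MvPolynomial (Fin n) k →ₐ[k] A).toRingHom.Etale)

include hd hw in
theorem etale_std₁ (hdA : IsUnit (d : A)) :
    (MvPolynomial.aeval (fun i => algebraMap A (Std₁ v d) (w i)) :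
      MvPolynomial (Fin n) k →ₐ[k] Std₁ v d).toRingHom.Etale := by
  have h : (algebraMap A (Std₁ v d)).Etale := RingHom.etale_algebraMap.2 (etale_adjoin (v : A) hd v.isUnit hdA)
  convert RingHom.Etale.stableUnderComposition _ _ hw h using 1
  refine MvPolynomial.ringHom_ext (fun a => ?_) fun i => ?_
  · simp only [AlgHom.toRingHom_eq_coe, RingHom.coe_coe, RingHom.comp_apply, MvPolynomial.aeval_C]
    exact IsScalarTower.algebraMap_apply k A (Std₁ v d) a
  · simp

include hd hN' hw in
/-- Away from `x` the standard model has the coordinates of the base. -/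
theorem etale_away_x (hdA : IsUnit (d : A)) (hNA : IsUnit (N' : A)) (Bx : Type u) [CommRing Bx]
    [Algebra (Std v x d N' r) Bx]
    [IsLocalization.Away (AdjoinRoot.of (stdPoly v x d N' r) (algebraMap A (Std₁ v d) x)) Bx] :
    (MvPolynomial.eval₂Hom ((algebraMap (Std v x d N' r) Bx).comp (algebraMap k (Std v x d N' r)))
      fun i => algebraMap (Std v x d N' r) Bx (algebraMap A (Std v x d N' r) (w i))).Etale := by
  let S₁ := Localization.Away (algebraMap A (Std₁ v d) x)
  obtain ⟨E, hE⟩ := exists_adjoinRoot_away_equiv (stdPoly v x d N' r) (algebraMap A (Std₁ v d) x) S₁ Bx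
  have hu : IsUnit (algebraMap (Std₁ v d) S₁ (AdjoinRoot.root _ ^ r * algebraMap A (Std₁ v d) x)) := by
    rw [map_mul, map_pow]
    exact (((isUnit_root v hd).map _).pow _).mul (IsLocalization.Away.algebraMap_isUnit _)
  have hN₁ : IsUnit (N' : S₁) := by
    have := hNA.map ((algebraMap (Std₁ v d) S₁).comp (algebraMap A (Std₁ v d)))
    rwa [map_natCast] at this
  have he : (AdjoinRoot.of ((stdPoly v x d N' r).map (algebraMap (Std₁ v d) S₁))).Etale := by
    have h := etale_adjoin _ hN' hu hN₁
    rw [← AdjoinRoot.algebraMap_eq, RingHom.etale_algebraMap]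
    have key : ∀ p : S₁[X], p = Polynomial.X ^ N' - Polynomial.C
        (algebraMap (Std₁ v d) S₁ (AdjoinRoot.root _ ^ r * algebraMap A (Std₁ v d) x)) →
          Algebra.Etale S₁ (AdjoinRoot p) := by
      rintro p rfl
      exact h
    exact key _ (by rw [Polynomial.map_sub, Polynomial.map_pow, map_X, map_C])
  have h := RingHom.Etale.stableUnderComposition _ _ (RingHom.Etale.stableUnderComposition _ _
    (RingHom.Etale.stableUnderComposition _ _ (etale_std₁ v hd w hw hdA)
      (RingHom.etale_algebraMap.2 (inferInstance : Algebra.Etale (Std₁ v d) S₁))) he)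
    (RingHom.Etale.of_bijective (f := E.toRingHom) E.bijective)
  convert h using 1
  have hC : ∀ a : Std₁ v d, E (AdjoinRoot.of _ (algebraMap (Std₁ v d) S₁ a)) =
      algebraMap (Std v x d N' r) Bx (AdjoinRoot.of _ a) := fun a => by
    rw [← AdjoinRoot.mk_C, ← AdjoinRoot.mk_C, ← map_C (algebraMap (Std₁ v d) S₁), hE]
  refine MvPolynomial.ringHom_ext (fun a => ?_) fun i => ?_
  · simp only [RingHom.comp_apply, MvPolynomial.eval₂Hom_C, AlgHom.toRingHom_eq_coe, RingHom.coe_coe,
      MvPolynomial.aeval_C]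
    rw [IsScalarTower.algebraMap_apply k (Std₁ v d) (Std v x d N' r)]
    exact (hC _).symm
  · simp only [RingHom.comp_apply, MvPolynomial.eval₂Hom_X', AlgHom.toRingHom_eq_coe, RingHom.coe_coe,
      MvPolynomial.aeval_X]
    rw [IsScalarTower.algebraMap_apply A (Std₁ v d) (Std v x d N' r)]
    exact (hC _).symm

/-- `k[X]` is `k[X][z]/(z ^ N' - X_e)`. -/
theorem bijective_aeval_root (e : Fin n) :
    Function.Bijective (MvPolynomial.aeval (Function.update
      (fun i => AdjoinRoot.of (Polynomial.X ^ N' - Polynomial.C (MvPolynomial.X e : MvPolynomial (Fin n) k))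
        (MvPolynomial.X i)) e (AdjoinRoot.root _)) :
      MvPolynomial (Fin n) k →ₐ[k]
        AdjoinRoot (Polynomial.X ^ N' - Polynomial.C (MvPolynomial.X e : MvPolynomial (Fin n) k))) := by
  let ψ : MvPolynomial (Fin n) k →ₐ[k] MvPolynomial (Fin n) k :=
    MvPolynomial.aeval (Function.update MvPolynomial.X e (MvPolynomial.X e ^ N'))
  let inv := AdjoinRoot.liftAlgHom
    (Polynomial.X ^ N' - Polynomial.C (MvPolynomial.X e : MvPolynomial (Fin n) k)) ψ (MvPolynomial.X e) (by
      simp [ψ])
  refine Function.bijective_iff_has_inverse.2 ⟨inv, fun p => ?_, fun p => ?_⟩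
  · rw [← AlgHom.comp_apply]
    refine DFunLike.congr_fun (MvPolynomial.algHom_ext (g := AlgHom.id k _) fun i => ?_) p
    by_cases hi : i = e
    · subst hi
      simp [inv]
    · simp [inv, ψ, Function.update_of_ne hi]
  · rw [← AlgHom.comp_apply]
    refine DFunLike.congr_fun (AdjoinRoot.algHom_ext' (g := AlgHom.id k _) ?_ ?_) p
    · refine MvPolynomial.algHom_ext fun i => ?_
      by_cases hi : i = e
      · subst hi
        have h := AdjoinRoot.eval₂_root (Polynomial.X ^ N' - Polynomial.C (MvPolynomial.X i : MvPolynomial (Fin n) k))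
        rw [eval₂_sub, eval₂_X_pow, eval₂_C, sub_eq_zero] at h
        simp [inv, ψ, h]
      · simp [inv, ψ, Function.update_of_ne hi]
    · simp [inv]

/-- Adjoining an `N'`-th root of one of the coordinates. -/
theorem etale_root_coord {G : Type u} [CommRing G] [Algebra k G] (wG : Fin n → G)
    (hwG : (MvPolynomial.aeval wG : MvPolynomial (Fin n) k →ₐ[k] G).toRingHom.Etale) (e : Fin n)
    (p : G[X]) (hp : p = Polynomial.X ^ N' - Polynomial.C (wG e)) :
    (MvPolynomial.eval₂Hom (algebraMap k (AdjoinRoot p))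
      (Function.update (fun i => AdjoinRoot.of p (wG i)) e (AdjoinRoot.root p))).Etale := by
  letI := (MvPolynomial.aeval wG : MvPolynomial (Fin n) k →ₐ[k] G).toRingHom.toAlgebra
  haveI : Algebra.Etale (MvPolynomial (Fin n) k) G := hwG
  haveI : IsScalarTower k (MvPolynomial (Fin n) k) G :=
    IsScalarTower.of_algebraMap_eq fun a => ((MvPolynomial.aeval wG).commutes a).symm
  let P := MvPolynomial (Fin n) k
  let p₀ : P[X] := Polynomial.X ^ N' - Polynomial.C (MvPolynomial.X e)
  obtain rfl : p = p₀.map (algebraMap P G) := by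
    rw [hp, Polynomial.map_sub, Polynomial.map_pow, map_X, map_C, RingHom.algebraMap_toAlgebra]
    congr 2
    exact (MvPolynomial.aeval_X _ e).symm
  let Φ : P →ₐ[k] AdjoinRoot p₀ :=
    MvPolynomial.aeval (Function.update (fun i => AdjoinRoot.of p₀ (MvPolynomial.X i)) e (AdjoinRoot.root p₀))
  let cm := (Algebra.TensorProduct.comm P (AdjoinRoot p₀) G).toRingEquiv
  let T := (tensorAdjoinRoot G p₀).toRingEquiv
  have h := RingHom.Etale.stableUnderComposition _ _ (RingHom.Etale.stableUnderComposition _ _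
    (RingHom.Etale.of_bijective (bijective_aeval_root (k := k) (N' := N') e) : Φ.toRingHom.Etale)
    (RingHom.etale_algebraMap.2 (inferInstance : Algebra.Etale (AdjoinRoot p₀) (AdjoinRoot p₀ ⊗[P] G))))
    (RingHom.Etale.of_bijective (f := (cm.trans T).toRingHom) (cm.trans T).bijective)
  convert h using 1
  have hval : ∀ q : P[X], (cm.trans T).toRingHom (algebraMap (AdjoinRoot p₀) (AdjoinRoot p₀ ⊗[P] G)
      (AdjoinRoot.mk _ q)) = AdjoinRoot.mk _ (q.map (algebraMap P G)) := fun q => by
    rw [Algebra.TensorProduct.algebraMap_apply]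
    exact (congrArg T (Algebra.TensorProduct.comm_tmul P _ _)).trans (tensorAdjoinRoot_one_tmul G _ q)
  refine MvPolynomial.ringHom_ext (fun a => ?_) fun i => ?_
  · simp only [RingHom.comp_apply, MvPolynomial.eval₂Hom_C, AlgHom.toRingHom_eq_coe, RingHom.coe_coe, Φ,
      MvPolynomial.aeval_C]
    rw [MvPolynomial.aeval_C, IsScalarTower.algebraMap_apply k P (AdjoinRoot p₀) a, AdjoinRoot.algebraMap_eq, ← AdjoinRoot.mk_C, hval, map_C,
      ← IsScalarTower.algebraMap_apply k P G, AdjoinRoot.mk_C, IsScalarTower.algebraMap_apply k G (AdjoinRoot _),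
      AdjoinRoot.algebraMap_eq]
  · simp only [RingHom.comp_apply, MvPolynomial.eval₂Hom_X', AlgHom.toRingHom_eq_coe, RingHom.coe_coe, Φ,
      MvPolynomial.aeval_X]
    rw [MvPolynomial.aeval_X]
    by_cases hi : i = e
    · subst hi
      rw [Function.update_self, Function.update_self, ← AdjoinRoot.mk_X, ← AdjoinRoot.mk_X, hval, map_X]
    · rw [Function.update_of_ne hi, Function.update_of_ne hi, ← AdjoinRoot.mk_C, ← AdjoinRoot.mk_C, hval, map_C,
        RingHom.algebraMap_toAlgebra]
      congr 2
      exact (MvPolynomial.aeval_X _ i).symm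

include hd hw in
/-- The standard model has the coordinates `z`, `w_i` (`i ≠ e`) on a neighbourhood of `x = 0`, `x = w_e`. -/
theorem exists_etale_near_zero (hdA : IsUnit (d : A)) (e : Fin n) (he : w e = x) :
    ∃ g : Std₁ v d, Ideal.span {g, algebraMap A (Std₁ v d) x} = ⊤ ∧
      ∀ (Bg : Type u) [CommRing Bg] [Algebra (Std v x d N' r) Bg]
        [IsLocalization.Away (AdjoinRoot.of (stdPoly v x d N' r) g) Bg],
        (MvPolynomial.eval₂Hom ((algebraMap (Std v x d N' r) Bg).comp (algebraMap k (Std v x d N' r)))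
          fun i => algebraMap (Std v x d N' r) Bg
            (Function.update (fun i => algebraMap A (Std v x d N' r) (w i)) e (AdjoinRoot.root _) i)).Etale := by
  classical
  obtain ⟨hs, hp, b₁, hb₁⟩ := exists_basis_D _ (etale_std₁ v hd w hw hdA)
  let c : Std₁ v d := AdjoinRoot.root _ ^ r
  let x₁ := algebraMap A (Std₁ v d) x
  let g := c + x₁ * b₁.repr (KaehlerDifferential.D k (Std₁ v d) c) e
  have hg : g = b₁.repr (KaehlerDifferential.D k (Std₁ v d) (c * x₁)) e := by
    have hx₁ : KaehlerDifferential.D k (Std₁ v d) x₁ = b₁ e := by rw [hb₁, he]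
    rw [Derivation.leibniz, hx₁, map_add, map_smul, map_smul, b₁.repr_self]
    simp [g]
  refine ⟨g, ?_, fun Bg _ _ _ => ?_⟩
  · refine Ideal.eq_top_of_isUnit_mem _ ?_ ((isUnit_root v hd).pow r)
    rw [Ideal.mem_span_pair]
    exact ⟨1, -(b₁.repr (KaehlerDifferential.D k (Std₁ v d) c) e), by simp only [g, x₁, c]; ring⟩
  let G := Localization.Away g
  let j : Std₁ v d →ₐ[k] G := IsScalarTower.toAlgHom k (Std₁ v d) G
  have hwG : (MvPolynomial.aeval (fun i => j (algebraMap A (Std₁ v d) (w i))) :
      MvPolynomial (Fin n) k →ₐ[k] G).toRingHom.Etale := by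
    convert RingHom.Etale.stableUnderComposition _ _ (etale_std₁ v hd w hw hdA)
      (RingHom.etale_algebraMap.2 (inferInstance : Algebra.Etale (Std₁ v d) G)) using 1
    refine MvPolynomial.ringHom_ext (fun a => ?_) fun i => ?_
    · simpa using IsScalarTower.algebraMap_apply k (Std₁ v d) G a
    · simp [j]
  obtain ⟨hsG, hpG, bG, hbG⟩ := exists_basis_D _ hwG
  let y := j (c * x₁)
  have hy : IsUnit (bG.repr (KaehlerDifferential.D k G y) e) := by
    rw [repr_D_map j _ b₁ hb₁ bG hbG, ← hg]
    exact IsLocalization.Away.algebraMap_isUnit g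
  let wG := Function.update (fun i => j (algebraMap A (Std₁ v d) (w i))) e y
  have hwG' := etale_update _ bG hbG e y hy
  obtain ⟨E, hE⟩ := exists_adjoinRoot_away_equiv (stdPoly v x d N' r) g G Bg
  have h := RingHom.Etale.stableUnderComposition _ _
    (etale_root_coord (N' := N') wG hwG' e ((stdPoly v x d N' r).map (algebraMap (Std₁ v d) G)) (by
      simp [wG, y, j, c, x₁]))
    (RingHom.Etale.of_bijective (f := E.toRingHom) E.bijective)
  convert h using 1
  have hC : ∀ a : Std₁ v d, E (AdjoinRoot.of _ (algebraMap (Std₁ v d) G a)) =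
      algebraMap (Std v x d N' r) Bg (AdjoinRoot.of _ a) := fun a => by
    rw [← AdjoinRoot.mk_C, ← AdjoinRoot.mk_C, ← map_C (algebraMap (Std₁ v d) G), hE]
  refine MvPolynomial.ringHom_ext (fun a => ?_) fun i => ?_
  · simp only [RingHom.comp_apply, MvPolynomial.eval₂Hom_C]
    rw [IsScalarTower.algebraMap_apply k (Std₁ v d) (Std v x d N' r) a,
      IsScalarTower.algebraMap_apply k G (AdjoinRoot ((stdPoly v x d N' r).map (algebraMap (Std₁ v d) G))) a,
      IsScalarTower.algebraMap_apply k (Std₁ v d) G a]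
    exact (hC _).symm
  · simp only [RingHom.comp_apply, MvPolynomial.eval₂Hom_X']
    by_cases hi : i = e
    · subst hi
      rw [Function.update_self, Function.update_self, ← AdjoinRoot.mk_X, ← AdjoinRoot.mk_X,
        ← Polynomial.map_X (algebraMap (Std₁ v d) G)]
      exact (hE _).symm
    · rw [Function.update_of_ne hi, Function.update_of_ne hi,
        IsScalarTower.algebraMap_apply A (Std₁ v d) (Std v x d N' r)]
      simp only [wG, Function.update_of_ne hi]
      exact (hC _).symm

end Etale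

end

end Groth.Agent.H26Cyc
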