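import Groth.Agent.H26Cyc.Chart

/-!
# The sections of a normalised cyclic cover inside the total ring of fractions of the simple one
-/

set_option autoImplicit false
set_option linter.style.haveILetI false
set_option backward.isDefEq.respectTransparency false
set_option maxHeartbeats 1000000

universe u

open CategoryTheory CategoryTheory.Limits AlgebraicGeometry Opposite TopologicalSpace Polynomial

namespace Groth.Agent.H26Cyc

section Algebra

variable {A : Type u} [CommRing A] [IsDomain A] (K : Type u) [Field K] [Algebra A K] [IsFractionRing A K]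
  {N : ℕ} {f : A} {C : Type u} [CommRing C] (φ : A →+* C)
  (ι : C →+* AdjoinRoot (Polynomial.X ^ N - Polynomial.C (algebraMap A K f)))

variable (hφ : ι.comp φ = (AdjoinRoot.of _).comp (algebraMap A K))
  (hroot : AdjoinRoot.root _ ∈ ι.range)

include hφ hroot in
/-- Every element of `K[T]/(T ^ N - f)` has a denominator in `A` with respect to a model containing the root. -/
theorem exists_smul_mem_range (l : AdjoinRoot (Polynomial.X ^ N - Polynomial.C (algebraMap A K f))) :
    ∃ (b : A) (c : C), b ≠ 0 ∧ ι c = ι (φ b) * l := by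
  induction l using AdjoinRoot.induction_on with
  | ih p =>
    obtain ⟨⟨b, hbm⟩, hb⟩ := IsLocalization.integerNormalization_map_to_map (nonZeroDivisors A) p
    obtain ⟨c, hc⟩ := hroot
    refine ⟨b, (IsLocalization.integerNormalization (nonZeroDivisors A) p).eval₂ φ c,
      nonZeroDivisors.ne_zero hbm, ?_⟩
    rw [hom_eval₂, hφ, hc, ← eval₂_map, hb, ← AdjoinRoot.algebraMap_eq, ← aeval_def, AdjoinRoot.aeval_eq,
      show ι (φ b) = _ from RingHom.congr_fun hφ b, RingHom.comp_apply, ← AdjoinRoot.mk_C, ← map_mul, ← smul_eq_C_mul, algebraMap_smul]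

include hφ hroot in
/-- A normal model containing the root contains every element integral over `A`. -/
theorem mem_range_of_isIntegralElem (hC : EGA4.IsNormalRing C) (hι : Function.Injective ι)
    {l : AdjoinRoot (Polynomial.X ^ N - Polynomial.C (algebraMap A K f))}
    (hl : ((AdjoinRoot.of _).comp (algebraMap A K)).IsIntegralElem l) : l ∈ ι.range := by
  obtain ⟨b, c, hb, hc⟩ := exists_smul_mem_range K φ ι hφ hroot l
  have hu : IsUnit (ι (φ b)) := by
    rw [show ι (φ b) = _ from RingHom.congr_fun hφ b, RingHom.comp_apply]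
    exact ((IsUnit.mk0 _ ((map_ne_zero_iff _ (IsFractionRing.injective A K)).2 hb))).map _
  have hreg : IsSMulRegular C (φ b) := fun x y h => hι <| hu.mul_left_cancel <| by
    simpa only [smul_eq_mul, map_mul] using congrArg ι h
  obtain ⟨P, hP, hPl⟩ := hl
  obtain ⟨d, rfl⟩ := Ideal.mem_span_singleton.1 (mem_span_of_eval_scaleRoots hC hreg (hP.map φ) (s := c) (hι (by
    rw [map_zero, ← eval₂_at_apply, hc, scaleRoots_eval₂_mul, eval₂_map, hφ, hPl, mul_zero])))
  refine ⟨d, hu.mul_left_cancel ?_⟩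
  rw [← hc, map_mul]

include hφ hroot in
/-- The range of a normal integral model is the integral closure. -/
theorem range_eq (hC : EGA4.IsNormalRing C) (hι : Function.Injective ι) (hint : φ.IsIntegral)
    (l : AdjoinRoot (Polynomial.X ^ N - Polynomial.C (algebraMap A K f))) :
    l ∈ ι.range ↔ ((AdjoinRoot.of _).comp (algebraMap A K)).IsIntegralElem l := by
  refine ⟨?_, mem_range_of_isIntegralElem K φ ι hφ hroot hC hι⟩
  rintro ⟨c, rfl⟩
  obtain ⟨P, hP, hPc⟩ := hint c
  exact ⟨P, hP, by rw [← hφ, ← hom_eval₂, hPc, map_zero]⟩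

include hφ hroot in
/-- Normal integral models inside `K[T]/(T ^ N - f)` are isomorphic. -/
theorem exists_equiv {B : Type u} [CommRing B] (ψ : A →+* B)
    (κ : B →+* AdjoinRoot (Polynomial.X ^ N - Polynomial.C (algebraMap A K f)))
    (hψ : κ.comp ψ = (AdjoinRoot.of _).comp (algebraMap A K))
    (hroot' : AdjoinRoot.root _ ∈ κ.range)
    (hC : EGA4.IsNormalRing C) (hι : Function.Injective ι) (hint : φ.IsIntegral)
    (hB : EGA4.IsNormalRing B) (hκ : Function.Injective κ) (hint' : ψ.IsIntegral) :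
    ∃ e : B ≃+* C, e.toRingHom.comp ψ = φ ∧ ∀ x, ι (e x) = κ x := by
  have hr : ∀ x : B, κ x ∈ ι.range := fun x =>
    (range_eq K φ ι hφ hroot hC hι hint _).2 ((range_eq K ψ κ hψ hroot' hB hκ hint' _).1 ⟨x, rfl⟩)
  choose g hg using hr
  let e : B →+* C :=
    { toFun := g
      map_one' := hι (by rw [hg, map_one, map_one])
      map_mul' := fun x y => hι (by rw [hg, map_mul, map_mul, hg, hg])
      map_zero' := hι (by rw [hg, map_zero, map_zero])
      map_add' := fun x y => hι (by rw [hg, map_add, map_add, hg, hg]) }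
  have he : Function.Bijective e := by
    refine ⟨fun x y h => hκ (by rw [← hg x, ← hg y]; exact congrArg ι h), fun c => ?_⟩
    obtain ⟨x, hx⟩ := (range_eq K ψ κ hψ hroot' hB hκ hint' _).2
      ((range_eq K φ ι hφ hroot hC hι hint (ι c)).1 ⟨c, rfl⟩)
    exact ⟨x, hι ((hg x).trans hx)⟩
  refine ⟨RingEquiv.ofBijective e he, RingHom.ext fun a => hι ?_, fun x => hg x⟩
  exact (hg _).trans ((RingHom.congr_fun hψ a).trans (RingHom.congr_fun hφ a).symm)

end Algebra

variable {X Y : Scheme.{u}} {L : X.Modules} {N : ℕ} {s : Coh.structureModule X ⟶ CohB1.tensorPow L N}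
  {π : Y ⟶ X} (R : CycCov.Root L N s π)

/-- The sections of a normalised cyclic cover embed in `K[T]/(T ^ N - f)`, `K` the function field. -/
theorem exists_embedding [IsIntegral X] (hN : 0 < N) (hR : CycCov.IsCover R) (U : X.affineOpens) [Nonempty U.1]
    {e : Γ(L, U.1)} (he : H11Tilde.IsGen L e) (f : Γ(X, U.1))
    (hf : SecTwist.val s U.1 = f • CycCov.lpow L U.1 e N)
    (K : Type u) [Field K] [Algebra Γ(X, U.1) K] [IsFractionRing Γ(X, U.1) K] :
    ∃ ι : Γ(Y, π ⁻¹ᵁ U.1) →+* AdjoinRoot (Polynomial.X ^ N - Polynomial.C (algebraMap Γ(X, U.1) K f)),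
      Function.Injective ι ∧ ι.comp (π.app U.1).hom = (AdjoinRoot.of _).comp (algebraMap Γ(X, U.1) K) ∧
      ι (R.t U e (isGen he)) = AdjoinRoot.root _ := by
  have hR' := hR
  obtain ⟨hfin, hY, W₀, hW₀, hW₀', hbij⟩ := hR
  haveI := hfin
  obtain ⟨x, hxU, hxW⟩ : ((U.1 ⊓ W₀ : X.Opens) : Set X).Nonempty := by
    obtain ⟨x, hx⟩ := ‹Nonempty U.1›
    exact hW₀.inter_open_nonempty _ U.1.isOpen ⟨x, hx⟩
  obtain ⟨a, ha, hxa⟩ := U.2.exists_basicOpen_le ⟨x, hxW⟩ hxU
  let V : X.affineOpens := ⟨X.basicOpen a, U.2.basicOpen a⟩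
  have hVU : V.1 ≤ U.1 := X.basicOpen_le a
  haveI : Nonempty V.1 := ⟨⟨x, hxa⟩⟩
  let φ : Γ(X, U.1) →+* Γ(X, V.1) := (X.presheaf.map (homOfLE hVU).op).hom
  have hφ : Function.Injective φ := AlgebraicGeometry.map_injective_of_isIntegral X (homOfLE hVU)
  letI := φ.toAlgebra
  haveI : IsLocalization.Away a Γ(X, V.1) := U.2.isLocalization_basicOpen a
  have ha0 : a ≠ 0 := fun h => by
    rw [h, Scheme.basicOpen_zero] at hxa
    exact hxa
  have haK : IsUnit (algebraMap Γ(X, U.1) K a) :=
    IsUnit.mk0 _ ((map_ne_zero_iff _ (IsFractionRing.injective _ K)).2 ha0)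
  let θ : Γ(X, V.1) →+* K := IsLocalization.Away.lift a haK
  have hθ : θ.comp φ = algebraMap Γ(X, U.1) K := IsLocalization.lift_comp _
  have hθi : Function.Injective θ := (IsLocalization.lift_injective_iff _).2 fun p q => by
    rw [(IsFractionRing.injective Γ(X, U.1) K).eq_iff]
    exact hφ.eq_iff
  let Ψ := RingEquiv.ofBijective _ (hbij V ha _ (isGen (he.res hVU)) _ (coeff_res hVU hf))
  have hθf : θ (φ f) = algebraMap Γ(X, U.1) K f := RingHom.congr_fun hθ f
  let Θ : AdjoinRoot (Polynomial.X ^ N - Polynomial.C (φ f)) →+*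
      AdjoinRoot (Polynomial.X ^ N - Polynomial.C (algebraMap Γ(X, U.1) K f)) :=
    AdjoinRoot.lift ((AdjoinRoot.of _).comp θ) (AdjoinRoot.root _) (by
      rw [← eval₂_map]
      simp only [Polynomial.map_sub, Polynomial.map_pow, map_X, map_C, hθf]
      exact AdjoinRoot.eval₂_root _)
  have hΘ : Function.Injective Θ := by
    rw [injective_iff_map_eq_zero]
    intro z hz
    induction z using AdjoinRoot.induction_on with
    | ih p =>
      rw [AdjoinRoot.lift_mk, ← eval₂_map, ← AdjoinRoot.algebraMap_eq, ← aeval_def, AdjoinRoot.aeval_eq,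
        AdjoinRoot.mk_eq_zero] at hz
      have hq : (Polynomial.X ^ N - Polynomial.C (φ f) : _[X]).Monic := monic_X_pow_sub_C _ hN.ne'
      rw [AdjoinRoot.mk_eq_zero, ← modByMonic_eq_zero_iff_dvd hq]
      refine Polynomial.map_injective θ hθi ?_
      rw [Polynomial.map_zero, map_modByMonic θ hq]
      simp only [Polynomial.map_sub, Polynomial.map_pow, map_X, map_C, hθf]
      exact (modByMonic_eq_zero_iff_dvd (monic_X_pow_sub_C _ hN.ne')).2 hz
  have hres : Function.Injective (Y.presheaf.map (homOfLE (π.preimage_mono hVU)).op) := by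
    letI := (Y.presheaf.map (homOfLE (π.preimage_mono hVU)).op).hom.toAlgebra
    haveI : IsLocalization.Away (π.app U.1 a) Γ(Y, π ⁻¹ᵁ V.1) :=
      (U.2.preimage π).isLocalization_of_eq_basicOpen (π.app U.1 a) (homOfLE (π.preimage_mono hVU))
        (Scheme.preimage_basicOpen π a)
    intro y z h
    obtain ⟨⟨c, m, rfl⟩, hc⟩ := (IsLocalization.eq_iff_exists (Submonoid.powers (π.app U.1 a))
      Γ(Y, π ⁻¹ᵁ V.1)).1 h
    exact ((isSMulRegular_app R hN hR' U he f hf ha0).pow m) hc
  refine ⟨Θ.comp (Ψ.symm.toRingHom.comp (Y.presheaf.map (homOfLE (π.preimage_mono hVU)).op).hom),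
    hΘ.comp (Ψ.symm.injective.comp hres), ?_, ?_⟩
  · ext b
    have h1 : Y.presheaf.map (homOfLE (π.preimage_mono hVU)).op (π.app U.1 b) =
        Ψ (AdjoinRoot.of _ (φ b)) := by
      rw [← CommRingCat.comp_apply]
      erw [← Scheme.Hom.naturality π (homOfLE hVU).op]
      change _ = CycCov.chart R V _ (isGen (he.res hVU)) _ (coeff_res hVU hf) (AdjoinRoot.of (Polynomial.X ^ N - Polynomial.C (φ f)) (φ b))
      simp only [CycCov.chart]
      erw [AdjoinRoot.lift_of]
      rfl
    change Θ (Ψ.symm (Y.presheaf.map (homOfLE (π.preimage_mono hVU)).op (π.app U.1 b))) = _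
    rw [h1, Ψ.symm_apply_apply, AdjoinRoot.lift_of]
    rw [← hθ]
    rfl
  · have h1 : Y.presheaf.map (homOfLE (π.preimage_mono hVU)).op (R.t U e (isGen he)) =
        Ψ (AdjoinRoot.root _) := by
      rw [R.t_res U V hVU e (isGen he) (isGen (he.res hVU))]
      change _ = CycCov.chart R V _ (isGen (he.res hVU)) _ (coeff_res hVU hf)
        (AdjoinRoot.root (Polynomial.X ^ N - Polynomial.C (φ f)))
      simp only [CycCov.chart]
      erw [AdjoinRoot.lift_root]
      rfl
    change Θ (Ψ.symm (Y.presheaf.map (homOfLE (π.preimage_mono hVU)).op (R.t U e (isGen he)))) = _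
    rw [h1, Ψ.symm_apply_apply, AdjoinRoot.lift_root]

end Groth.Agent.H26Cyc
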